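import Cfsg.Agent.H63.Eleven.Defs

/-!
The permutation-group data left after the geometry of the case "all lines are `L₂(11)`".
-/

set_option autoImplicit false

namespace H63.Eleven

universe u v

/-- Data of case A on the set of points. `W a` is the centraliser of the point `a` (a subgroup of
order 11), `P a` the point as a subgroup. -/
structure ACore (G : Type u) (Ω : Type v) [Group G] [MulAction G Ω] where
  simple : IsSimpleGroup G
  noncomm : ∃ g h : G, g * h ≠ h * g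
  faithful : ∀ g : G, (∀ a : Ω, g • a = a) → g = 1
  twoTrans : ∀ a b c d : Ω, a ≠ b → c ≠ d → ∃ g : G, g • a = c ∧ g • b = d
  u : ℕ
  card_points : Nat.card Ω = 11 * u + 1
  one_lt_u : 1 < u
  u_mod : u % 5 = 1
  W : Ω → Subgroup G
  W_le : ∀ a, W a ≤ MulAction.stabilizer G a
  W_conj : ∀ (g x : G) (a : Ω), x ∈ W a → g * x * g⁻¹ ∈ W (g • a)
  pow_ten : ∀ (a : Ω) (x : G), x • a = a → x ^ 10 ∈ W a
  comm_mem : ∀ (a : Ω) (x y : G), x • a = a → y • a = a → x * y * x⁻¹ * y⁻¹ ∈ W a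
  P : Ω → Subgroup G
  card_P : ∀ a, Nat.card (P a) = 11
  P_le : ∀ a, P a ≤ W a
  W_iff : ∀ (a : Ω) (x : G), x ∈ W a ↔ Centralises x (P a)
  P_conj : ∀ (g : G) (a : Ω), P (g • a) = cj g (P a)
  P_fix : ∀ (a b : Ω) (x : G), x ∈ P a → x ≠ 1 → x • b = b → b = a
  v : ℕ
  card_V : ∀ a b : Ω, a ≠ b →
    Nat.card ↥(W a ⊓ MulAction.stabilizer G b : Subgroup G) = v
  card_W : ∀ a, Nat.card (W a) = 11 * u * v
  V_sym : ∀ (a b : Ω) (x : G), a ≠ b → x ∈ W a → x • b = b → x ∈ W b
  line : Ω → Ω → Set Ω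
  line_left : ∀ a b, a ≠ b → a ∈ line a b
  line_right : ∀ a b, a ≠ b → b ∈ line a b
  line_card : ∀ a b, a ≠ b → Nat.card (line a b) = 12
  line_eq : ∀ a b c d, a ≠ b → c ∈ line a b → d ∈ line a b → c ≠ d → line c d = line a b
  line_smul : ∀ (g : G) (a b : Ω), a ≠ b → line (g • a) (g • b) = (fun c => g • c) '' line a b
  V_fix : ∀ (a b : Ω) (x : G), a ≠ b → x ∈ W a → x • b = b → x ≠ 1 →
    ∀ c, x • c = c ↔ c ∈ line a b
  /-- An element fixing three points acts on each of them as `±1`. -/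
  three : ∀ (a b c : Ω) (x : G), a ≠ b → a ≠ c → b ≠ c → x • a = a → x • b = b → x • c = c →
    x ^ 2 ∈ W a
  card_M : ∀ a b : Ω, a ≠ b →
    Nat.card ↥(MulAction.stabilizer G a ⊓ MulAction.stabilizer G b : Subgroup G) ∣ 10 * v ∧
    5 * v ∣ Nat.card ↥(MulAction.stabilizer G a ⊓ MulAction.stabilizer G b : Subgroup G)
  /-- If two-point centralisers stabilise no second line, `⟨y⟩ × V` is semiregular on them. -/
  five_v_dvd' : (∀ (a b c : Ω) (x : G), a ≠ b → a ≠ c → x ∈ W a → x • b = b → x ≠ 1 →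
    x • c ∈ line a c → c ∈ line a b) → 5 * v ∣ u - 1
  /-- A point, as a subgroup, stabilises the lines through it. -/
  P_line : ∀ (a b : Ω) (x : G), a ≠ b → x ∈ P a → x • b ∈ line a b
  /-- An element centralising `a` and stabilising a line through `a` is, up to an element of
  `P a`, one fixing a second point of that line. -/
  line_stab : ∀ (a c : Ω) (x : G), a ≠ c → x ∈ W a → x • c ∈ line a c →
    ∃ p ∈ P a, (x * p) • c = c
  /-- An element not centralising its fixed point `a` fixes a second point on every line through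
  `a` that it stabilises. -/
  line_fix : ∀ (a c : Ω) (x : G), a ≠ c → x • a = a → x ∉ W a → x • c ∈ line a c →
    ∃ d ∈ line a c, d ≠ a ∧ x • d = d
  /-- In the automorphism group of `L₂(11)` a four-group of fixed-point-free involutions commutes
  with no element of order four. -/
  line_four : ∀ a b : Ω, a ≠ b → ∀ x s : G, (∀ c ∈ line a b, x • c ∈ line a b) →
    (∀ c ∈ line a b, s • c ∈ line a b) → x * s = s * x → s * s = 1 →
    (∀ c ∈ line a b, (x * x * (x * x)) • c = c) → (∀ c ∈ line a b, s • c ≠ c) →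
    (∀ c ∈ line a b, (x * x) • c ≠ c) → (∀ c ∈ line a b, (x * x * s) • c ≠ c) → False
  /-- A swapping involution of a line commutes with a second one. -/
  line_invol : ∀ a b : Ω, a ≠ b → ∀ w : G, w * w = 1 → w • a = b → w • b = a →
    (∀ c ∈ line a b, w • c ≠ c) → (∀ x : G, x ∈ W a → x • b = b → x * w = w * x) →
    ∃ (s : G) (c : Ω), c ∈ line a b ∧ s • c ∈ line a b ∧ s • c ≠ c ∧ s * s = 1 ∧ s * w = w * s ∧
      (∃ d ∈ line a b, s • d ≠ w • d) ∧ (∀ d ∈ line a b, s • d ≠ d) ∧ ∀ x : G, x ∈ W a → x • b = b → x * s = s * x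
  /-- An element of order five in a two-point stabiliser. -/
  exists_y : ∀ a b : Ω, a ≠ b → ∃ y : G, orderOf y = 5 ∧ y • a = a ∧ y • b = b ∧
    (∀ c, y • c = c → c = a ∨ c = b) ∧
    (∀ x : G, x ∈ W a → x • b = b → x * y = y * x) ∧
    (∀ x : G, x ∈ W a → x • b = b → ∀ c, (y * x) • c = c → c = a ∨ c = b) ∧
    (∀ t : G, t * t = 1 → t • a = a → t • b = b → t * y = y * t) ∧
    ∃ w : G, w * w = 1 ∧ w • a = b ∧ w • b = a ∧ w * y * w⁻¹ = y⁻¹ ∧
      (∀ c ∈ line a b, w • c ≠ c) ∧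
      (∀ x : G, x ∈ W a → x • b = b → x * w = w * x) ∧
      (∀ g : G, g * g = 1 → g • a = b → g • b = a → (∀ c ∈ line a b, g • c ≠ c) →
        ∃ (i : ℕ) (x : G), x ∈ W a ∧ x • b = b ∧ g = w * y ^ i * x) ∧
      (∀ t : G, t * t = 1 → t • a = a → t • b = b → t ∉ W a → t * w = w * t)

end H63.Eleven
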