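import Cfsg.Agent.H63.Eleven.Defs
import Cfsg.Agent.H77.Eleven.JCent
-- owner: helper77

/-!
Facts about `J₁`.
-/

set_option autoImplicit false

namespace H63.Eleven

universe u

variable {K : Type u} [Group K] [Finite K] (h : Cfsg.Spor.IsoJ1 K)
include h

theorem j1_simple : IsSimpleGroup K :=
  H77.Eleven.j_simple h
theorem j1_card : Nat.card K = 175560 :=
  H77.Eleven.j_card h
theorem j1_card_sylow : Nat.card {A : Subgroup K // Nat.card A = 11} = 1596 :=
  H77.Eleven.j_card_sylow h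
theorem j1_centralizer {A : Subgroup K} (hA : Nat.card A = 11) :
    Subgroup.centralizer (A : Set K) = A :=
  H77.Eleven.j_centralizer h hA
theorem j1_normalizer {A : Subgroup K} (hA : Nat.card A = 11) :
    Nat.card (Subgroup.normalizer (A : Set K)) = 110 :=
  H77.Eleven.j_normalizer h hA
theorem j1_no_four (g : K) : orderOf g ≠ 4 :=
  H77.Eleven.j_no_four h g
theorem j1_invol_conj {s t : K} (hs : orderOf s = 2) (ht : orderOf t = 2) :
    ∃ g : K, g * s * g⁻¹ = t :=
  H77.Eleven.j_invol_conj h hs ht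
theorem j1_inner (α : MulAut K) : ∃ g : K, ∀ k, α k = g * k * g⁻¹ :=
  H77.Eleven.j_inner h α
theorem j1_fix_twelve {t : K} (ht : orderOf t = 2) :
    Nat.card {A : Subgroup K // Nat.card A = 11 ∧ cj t A = A} = 12 :=
  H77.Eleven.j_fix_twelve h ht
theorem j1_cent_equiv {t : K} (ht : orderOf t = 2) :
    Nonempty (↥(Subgroup.centralizer ({t} : Set K)) ≃*
      Multiplicative (ZMod 2) × ↥(alternatingGroup (Fin 5))) :=
  H77.Eleven.j_cent_equiv h ht
theorem j1_cent_gen {t : K} (ht : orderOf t = 2) :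
    Subgroup.closure {x : K | orderOf x = 2 ∧ x * t = t * x} = Subgroup.centralizer ({t} : Set K) :=
  H77.Eleven.j_cent_gen h ht
theorem j1_cent_trans {t : K} (ht : orderOf t = 2) {A B : Subgroup K} (hA : Nat.card A = 11)
    (hB : Nat.card B = 11) (htA : cj t A = A) (htB : cj t B = B) :
    ∃ c : K, c * t = t * c ∧ cj c A = B :=
  H77.Eleven.j_cent_trans h ht hA hB htA htB
/-- The antipode of a point fixed by `t`. -/
theorem j1_axis {t : K} (ht : orderOf t = 2) {A : Subgroup K} (hA : Nat.card A = 11)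
    (htA : cj t A = A) :
    ∃ B : Subgroup K, Nat.card B = 11 ∧ B ≠ A ∧ cj t B = B ∧
      ∃ y w : K, orderOf y = 5 ∧ y * t = t * y ∧ cj y A = A ∧ cj y B = B ∧
        (∀ C : Subgroup K, Nat.card C = 11 → cj t C = C → cj y C = C → C = A ∨ C = B) ∧
        orderOf w = 2 ∧ w * t = t * w ∧ cj w A = B ∧ cj w B = A ∧ w * y * w⁻¹ = y⁻¹ :=
  H77.Eleven.j_axis h ht hA htA
theorem j1_pair_mult {t g : K} (ht : orderOf t = 2) {A B : Subgroup K} (hA : Nat.card A = 11)
    (hB : Nat.card B = 11) (hne : A ≠ B) (htA : cj t A = A) (htB : cj t B = B)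
    (hg : g * t = t * g) {i j : ℕ} (hi : ActsAs g A i) (hj : ActsAs g B j) :
    i * j % 11 = 1 :=
  H77.Eleven.j_pair_mult h ht hA hB hne htA htB hg hi hj
/-- For an involution `w ≠ t` of `C(t)`: the pairs `(A, w')` with `w'` agreeing with `w` at `A`. -/
theorem j1_agree_count {t w : K} (ht : orderOf t = 2) (hw : orderOf w = 2) (hwt : w * t = t * w)
    (hne : w ≠ t) :
    Nat.card {q : Subgroup K × K // Nat.card q.1 = 11 ∧ cj t q.1 = q.1 ∧ orderOf q.2 = 2 ∧
      q.2 * t = t * q.2 ∧ q.2 ≠ t ∧ cj q.2 q.1 = cj w q.1} = 56 :=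
  H77.Eleven.j_agree_count h ht hw hwt hne

end H63.Eleven
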