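import Cfsg.Agent.H63.Eleven.Defs
import Cfsg.Agent.H77.Eleven.LPairs
import Cfsg.Agent.H77.Eleven.LFour
-- owner: helper77

/-!
Facts about `L₂(11)`.
-/

set_option autoImplicit false

namespace H63.Eleven

universe u

variable {K : Type u} [Group K] [Finite K] (h : IsL2 K)
include h

theorem l2_simple : IsSimpleGroup K :=
  H77.Eleven.simple_l2 h
theorem l2_card : Nat.card K = 660 :=
  H77.Eleven.card_l2 h
theorem l2_card_sylow : Nat.card {A : Subgroup K // Nat.card A = 11} = 12 :=
  (H77.Eleven.six_of h).card_points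
theorem l2_gen {A B : Subgroup K} (hA : Nat.card A = 11) (hB : Nat.card B = 11) (hne : A ≠ B) :
    A ⊔ B = ⊤ :=
  (H77.Eleven.six_of h).gen hA hB hne
theorem l2_centralizer {A : Subgroup K} (hA : Nat.card A = 11) :
    Subgroup.centralizer (A : Set K) = A :=
  (H77.Eleven.six_of h).centralizer_eq hA
theorem l2_normalizer {A : Subgroup K} (hA : Nat.card A = 11) :
    Nat.card (Subgroup.normalizer (A : Set K)) = 55 :=
  (H77.Eleven.six_of h).card_normalizer hA
theorem l2_pair {A B : Subgroup K} (hA : Nat.card A = 11) (hB : Nat.card B = 11) (hne : A ≠ B) :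
    Nat.card ↥(Subgroup.normalizer (A : Set K) ⊓ Subgroup.normalizer (B : Set K)) = 5 :=
  (H77.Eleven.six_of h).pair_card hA hB hne
theorem l2_fix_two {A B C : Subgroup K} (hA : Nat.card A = 11) (hB : Nat.card B = 11)
    (hC : Nat.card C = 11) (hne : A ≠ B) {y : K} (hy1 : y ≠ 1) (hyA : cj y A = A) (hyB : cj y B = B)
    (hyC : cj y C = C) : C = A ∨ C = B :=
  (H77.Eleven.six_of h).fix_two hA hB hC hne hy1 hyA hyB hyC
/-- The multipliers of an automorphism fixing two points are inverse to each other. -/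
theorem l2_mult {A B : Subgroup K} (hA : Nat.card A = 11) (hB : Nat.card B = 11) (hne : A ≠ B)
    (α : MulAut K) {i j : ℕ} (hi : ∀ a ∈ A, α a = a ^ i) (hj : ∀ b ∈ B, α b = b ^ j) :
    i * j % 11 = 1 :=
  H77.Eleven.mult h hA hB hne α hi hj
/-- The swapping involution: it inverts the two-point stabiliser and commutes with the automorphism
inverting both points. -/
theorem l2_swap {A B : Subgroup K} (hA : Nat.card A = 11) (hB : Nat.card B = 11) (hne : A ≠ B) :
    ∃ w : K, w * w = 1 ∧ cj w A = B ∧ cj w B = A ∧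
      (∀ y : K, cj y A = A → cj y B = B → w * y * w⁻¹ = y⁻¹) ∧
      ∀ α : MulAut K, (∀ a ∈ A, α a = a⁻¹) → (∀ b ∈ B, α b = b⁻¹) → α w = w :=
  H77.Eleven.swap h hA hB hne
/-- A swapping involutive automorphism fixes a third point or is inner. -/
theorem l2_outer_swap {A B : Subgroup K} (hA : Nat.card A = 11) (hB : Nat.card B = 11) (hne : A ≠ B)
    (α : MulAut K) (hα : ∀ k, α (α k) = k) (hAB : A.map α.toMonoidHom = B) :
    (∃ C : Subgroup K, Nat.card C = 11 ∧ C.map α.toMonoidHom = C) ∨
      ∃ g : K, ∀ k, α k = g * k * g⁻¹ :=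
  H77.Eleven.outer_swap h hA hB hne α hα hAB
/-- The inverting automorphism gives an element of order four in the extension. -/
theorem l2_order_four {A B : Subgroup K} (hA : Nat.card A = 11) (hB : Nat.card B = 11) (hne : A ≠ B)
    (α : MulAut K) (hi : ∀ a ∈ A, α a = a⁻¹) (hj : ∀ b ∈ B, α b = b⁻¹) :
    ∃ g : K, α g * g ≠ 1 ∧ (α g * g) * (α g * g) = 1 :=
  H77.Eleven.order_four h hA hB hne α hi hj

/-- An automorphism fixing two distinct commuting involutions has square one on them all. -/
theorem l2_cent_four {e f : K} (he : e * e = 1) (hf : f * f = 1) (he1 : e ≠ 1) (hf1 : f ≠ 1)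
    (hef : e ≠ f) (hc : e * f = f * e) (α : MulAut K) (hαe : α e = e) (hαf : α f = f) :
    ∀ k, α (α k) = k :=
  H77.Eleven.cent_four h he hf he1 hf1 hef hc α hαe hαf
/-- A swapping involution commutes with a second fixed-point-free one. -/
theorem l2_second_invol {w : K} (hw : w * w = 1) (hw1 : w ≠ 1) :
    ∃ s : K, s * s = 1 ∧ s ≠ 1 ∧ s ≠ w ∧ s * w = w * s :=
  H77.Eleven.second_invol h hw hw1

end H63.Eleven
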