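import Cfsg.Agent.H63.Eleven.AGood
import Cfsg.Agent.H66.Eleven.U121
import Cfsg.Agent.H66.Eleven.OddU
import Cfsg.Agent.H66.Eleven.OddGood
-- owner: helper66

set_option autoImplicit false

namespace H63.Eleven.ACore

universe u v

variable {G : Type u} {Ω : Type v} [Group G] [Finite G] [MulAction G Ω] (A : ACore G Ω)

/-- `|G| = 1332 · 1331 · 5k` with `k ∣ 12` is impossible (for `v = 4` there is `U₃(11)`). -/
theorem false_of_u121 (hu : A.u = 121) (hv : A.v ∣ 6) : False :=
  H66.Eleven.false_u121 A hu hv

theorem odd_u (hv : Odd A.v) : Odd A.u :=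
  H66.Eleven.odd_u' A hv

/-- The odd case: either an impossible configuration, or a good class with a character. -/
theorem exists_good_of_odd (hv : Odd A.v) :
    ∃ _T : A.Good, A.HasSigma ∨ 1 < A.v :=
  H66.Eleven.exists_good_odd A hv

end H63.Eleven.ACore
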