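import Cfsg.Agent.H63.Eleven.CountOdd
import Cfsg.Agent.H25.Eleven.Even
-- owner: helper25

set_option autoImplicit false

namespace H63.Eleven.ACore

universe u v

variable {G : Type u} {Ω : Type v} [Group G] [Finite G] [MulAction G Ω] (A : ACore G Ω)

theorem exists_good_of_even (hv : Even A.v) :
    A.v ∣ 12 ∧ ∃ _T : A.Good, True :=
  H25.Eleven.exists_good_even A hv

end H63.Eleven.ACore
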