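import Cfsg.Agent.H63.Eleven.CharA
import Cfsg.Agent.H63.Eleven.CountEven
-- owner: helper63

set_option autoImplicit false

namespace H63.Eleven

universe u v

theorem ACore.false {G : Type u} {Ω : Type v} [Group G] [Finite G] [MulAction G Ω]
    (A : ACore G Ω) : False := by
  rcases Nat.even_or_odd A.v with hv | hv
  · obtain ⟨h12, T, -⟩ := A.exists_good_of_even hv
    have hpos : 0 < A.v := Nat.pos_of_dvd_of_pos h12 (by norm_num)
    have hle : A.v ≤ 12 := Nat.le_of_dvd (by norm_num) h12
    have hu : Odd A.u := by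
      have h2 : 2 ∣ A.u - 1 := ((even_iff_two_dvd.1 hv).mul_left 5).trans A.five_v_dvd
      have := A.one_lt_u
      rw [Nat.odd_iff]
      omega
    have h2 : 2 ≤ A.v := Nat.le_of_dvd hpos (even_iff_two_dvd.1 hv)
    exact A.false_of_good T hu (by omega) (Or.inr (by omega))
  · obtain ⟨T, hT⟩ := A.exists_good_of_odd hv
    refine A.false_of_good T (A.odd_u hv) ?_ hT
    intro h
    rw [h, Nat.odd_iff] at hv
    norm_num at hv

end H63.Eleven
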