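import Cfsg.Agent.H63.Eleven.ACore

/-!
Interfaces between the parts of case A.
-/

set_option autoImplicit false

namespace H63.Eleven

universe u v

variable {G : Type u} {Ω : Type v} [Group G] [MulAction G Ω]

namespace ACore

variable (A : ACore G Ω)

/-- A swapping involution whose conjugates fix no point and, swapping the same two points, differ
by powers of the element `y` of order five. -/
structure Good where
  a : Ω
  b : Ω
  hab : a ≠ b
  y : G
  y_order : orderOf y = 5
  ya : y • a = a
  yb : y • b = b
  y_comm : ∀ x : G, x ∈ A.W a → x • b = b → x * y = y * x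
  w : G
  ww : w * w = 1
  wa : w • a = b
  wb : w • b = a
  wy : w * y * w⁻¹ = y⁻¹
  w_comm : ∀ x : G, x ∈ A.W a → x • b = b → x * w = w * x
  w_fpf : ∀ c : Ω, w • c ≠ c
  same : ∀ g : G, (∃ h : G, g = h * w * h⁻¹) → g • a = b → g • b = a → ∃ i : ℕ, g = w * y ^ i

/-- Some element of a two-point stabiliser inverts the points. -/
def HasSigma : Prop := ∃ (a b : Ω) (x : G), a ≠ b ∧ x • a = a ∧ x • b = b ∧ x ^ 5 ∉ A.W a

end ACore

end H63.Eleven
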