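import Cfsg.Agent.H63.Eleven.Defs
import Cfsg.Prelude.Def_Characters
import Cfsg.Agent.H14.PerfectD8
import Cfsg.Agent.H4.Eleven.BlockArith
import Cfsg.Agent.H4.Eleven.BlockChar
-- owner: helper4

/-!
The block equation: a transitive group with a class `J` of fixed-point-free involutions with the
counts below has `u = 1`.
-/

set_option autoImplicit false
set_option linter.style.haveILetI false

namespace H63.Eleven

open Cfsg

universe u v

theorem block_equation {X : Type u} {Ω : Type v} [Group X] [Finite X] [MulAction X Ω] [Finite Ω]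
    (htrans : ∀ a b : Ω, ∃ g : X, g • a = b)
    (u f v : ℕ) (hv : Odd v) (hu5 : u % 5 = 1) (huodd : Odd u)
    (hf : f = 1 + 11 * u) (hΩ : Nat.card Ω = f) (hX : Nat.card X = 5 * f * u * v)
    (w : X) (hw : orderOf w = 2) (hwfpf : ∀ c : Ω, w • c ≠ c)
    (hJ : Nat.card {g : X // IsConj w g} = 15 * u)
    (hagree : 3 * Nat.card {q : Ω × X // IsConj w q.2 ∧ q.2 • q.1 = w • q.1} = 7 * f)
    (p q : Ω) (hpq : p ≠ q)
    (Y V C : Subgroup X) (hY : Nat.card Y = 5) (hV : Nat.card V = v) (hC : Nat.card C = 5 * v)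
    (hYC : Y ≤ C) (hVC : V ≤ C) (hYV : Y ⊓ V = ⊥) (hcomm : ∀ y ∈ Y, ∀ x ∈ V, y * x = x * y)
    (hfix : ∀ s ∈ C, s ∉ V → ∀ c : Ω, s • c = c ↔ c = p ∨ c = q)
    (hCpq : ∀ g : X, g • p = p → g • q = q → g ∈ C)
    (w₀ : X) (hw₀ : IsConj w w₀) (hw₀p : w₀ • p = q) (hw₀q : w₀ • q = p)
    (hw₀Y : ∀ y ∈ Y, w₀ * y * w₀⁻¹ = y⁻¹) (hw₀V : ∀ x ∈ V, w₀ * x = x * w₀)
    (hF5 : ∀ y ∈ Y, y ≠ 1 → Nat.card {g : X // IsConj w g ∧ IsConj w (g * y)} = 5)
    (hF0 : ∀ s ∈ C, s ∉ V → s ∉ Y → Nat.card {g : X // IsConj w g ∧ IsConj w (g * s)} = 0) :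
    u = 1 := by
  classical
  have := Fintype.ofFinite X
  have hv0 : (v : ℂ) ≠ 0 := by exact_mod_cast hv.pos.ne'
  have hCodd : ∀ s ∈ C, orderOf s ≠ 2 := fun s hs h2 => by
    have h := Subgroup.orderOf_dvd_natCard _ hs
    rw [hC, h2] at h
    exact (Nat.not_even_iff_odd.2 ((by decide : Odd 5).mul hv)) (even_iff_two_dvd.2 h)
  have hwz : w₀ * w₀ = 1 := by
    obtain ⟨g, hg⟩ := isConj_iff.1 hw₀
    have : orderOf w₀ = 2 := by
      rw [← hg, ← hw]
      exact MulEquiv.orderOf_eq (MulAut.conj g) w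
    rw [← sq, ← this, pow_orderOf_eq_one]
  -- the decomposition of `C`
  let e : Y × V →* C :=
    { toFun := fun z => ⟨z.1 * z.2, C.mul_mem (hYC z.1.2) (hVC z.2.2)⟩
      map_one' := by ext; simp
      map_mul' := fun a b => Subtype.ext (by
        simp only [Prod.fst_mul, Prod.snd_mul, Subgroup.coe_mul]
        rw [mul_assoc, ← mul_assoc (b.1 : X), hcomm _ b.1.2 _ a.2.2]
        simp only [mul_assoc]) }
  have he_coe : ∀ y x, (e (y, x) : X) = y * x := fun _ _ => rfl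
  have hmemV : ∀ y x, (e (y, x) : X) ∈ V ↔ y = 1 := fun y x => by
    refine ⟨fun h => Subtype.ext ?_, fun h => by rw [he_coe, h]; simp⟩
    rw [he_coe, mul_mem_cancel_right x.2] at h
    have : (y : X) ∈ Y ⊓ V := ⟨y.2, h⟩
    rw [hYV] at this
    simpa using this
  have hmemY : ∀ y x, (e (y, x) : X) ∈ Y ↔ x = 1 := fun y x => by
    refine ⟨fun h => Subtype.ext ?_, fun h => by rw [he_coe, h]; simp⟩
    rw [he_coe, mul_mem_cancel_left y.2] at h
    have : (x : X) ∈ Y ⊓ V := ⟨h, x.2⟩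
    rw [hYV] at this
    simpa using this
  have heinj : Function.Injective e := by
    rw [injective_iff_map_eq_one]
    rintro ⟨y, x⟩ h
    have hy : y = 1 := (hmemV y x).1 (by rw [h]; exact V.one_mem)
    have hx : x = 1 := (hmemY y x).1 (by rw [h]; exact Y.one_mem)
    rw [hy, hx]; rfl
  have hebij : Function.Bijective e := (Nat.bijective_iff_injective_and_card e).2
    ⟨heinj, by rw [Nat.card_prod, hY, hV, hC]⟩
  -- the linear character
  haveI : Fact (Nat.Prime 5) := ⟨by norm_num⟩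
  haveI : IsCyclic Y := isCyclic_of_prime_card hY
  obtain ⟨y₀, hy₀⟩ := IsCyclic.exists_generator (α := Y)
  have hprim := Complex.isPrimitiveRoot_exp 5 (by norm_num)
  let z : ℂˣ := (hprim.isUnit (by norm_num)).unit
  have hz : orderOf z = 5 := by
    rw [← orderOf_units, IsUnit.unit_spec, ← hprim.eq_orderOf]
  have hy₀o : orderOf y₀ = 5 := by rw [orderOf_eq_card_of_forall_mem_zpowers hy₀, hY]
  let ψ : Y →* ℂˣ := monoidHomOfForallMemZpowers hy₀ (by rw [hz, hy₀o] : orderOf z ∣ orderOf y₀)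
  have hψ₀ : ψ y₀ = z := monoidHomOfForallMemZpowers_apply_gen hy₀ _
  have hψ5 : ∀ y, (ψ y : ℂ) ^ 5 = 1 := fun y => by
    rw [← Units.val_pow_eq_pow_val, ← map_pow, ← hY, pow_card_eq_one', map_one, Units.val_one]
  have hψconj : ∀ y, starRingEnd ℂ (ψ y : ℂ) = (ψ y : ℂ)⁻¹ := fun y =>
    (Complex.inv_eq_conj (Complex.norm_eq_one_of_pow_eq_one (hψ5 y) (by norm_num))).symm
  have hψsum : ∀ k : ℕ, ¬ 5 ∣ k → ∑ y : Y, (ψ y : ℂ) ^ k = 0 := fun k hk => by
    refine sum_hom_units_eq_zero (((Units.coeHom ℂ).comp ψ) ^ k) fun h => hk ?_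
    have := DFunLike.congr_fun h y₀
    simp only [MonoidHom.pow_apply, MonoidHom.comp_apply, Units.coeHom_apply, MonoidHom.one_apply,
      hψ₀, ← Units.val_pow_eq_pow_val, Units.val_eq_one] at this
    rw [← hz]
    exact orderOf_dvd_of_pow_eq_one this
  have hψsum' : ∑ y : Y, (ψ y : ℂ)⁻¹ = 0 := by
    have : ∀ y, (ψ y : ℂ)⁻¹ = starRingEnd ℂ ((ψ y : ℂ) ^ 1) := fun y => by rw [pow_one, hψconj]
    rw [Finset.sum_congr rfl fun y _ => this y, ← map_sum, hψsum 1 (by norm_num), map_zero]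
  let η : C →* ℂˣ :=
    ψ.comp ((MonoidHom.fst Y V).comp (MulEquiv.ofBijective e hebij).symm.toMonoidHom)
  have hη : ∀ y x, η (e (y, x)) = ψ y := fun y x => by
    show ψ ((MulEquiv.ofBijective e hebij).symm (e (y, x))).1 = ψ y
    rw [show (MulEquiv.ofBijective e hebij).symm (e (y, x)) = (y, x) from
      (MulEquiv.ofBijective e hebij).symm_apply_apply (y, x)]
  let φ : C → ℂ := fun c => 1 - (η c : ℂ)
  have hφe : ∀ y x, φ (e (y, x)) = 1 - (ψ y : ℂ) := fun y x => by simp only [φ, hη]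
  have hφV : ∀ c : C, (c : X) ∈ V → φ c = 0 := fun c hc => by
    obtain ⟨⟨y, x⟩, rfl⟩ := hebij.2 c
    rw [hφe, (hmemV y x).1 hc, map_one, Units.val_one, sub_self]
  have hsumC : ∀ F : C → ℂ, ∑ c, F c = ∑ y, ∑ x, F (e (y, x)) := fun F => by
    rw [← Fintype.sum_prod_type']
    exact (Fintype.sum_bijective e hebij _ _ fun _ => rfl).symm
  have hcV : Fintype.card V = v := by rw [← Nat.card_eq_fintype_card, hV]
  have hcY : Fintype.card Y = 5 := by rw [← Nat.card_eq_fintype_card, hY]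
  have hinner : ∀ F : X → ℂ, ∀ k : Y → ℂ, (∀ y x, y ≠ 1 → F (e (y, x)) = k y) →
      classInner φ (fun c : C => F c) =
        5⁻¹ * ∑ y, (1 - (ψ y : ℂ)) * starRingEnd ℂ (k y) := fun F k hk => by
    rw [classInner, hsumC, hC]
    have : ∀ y x, φ (e (y, x)) * starRingEnd ℂ (F (e (y, x))) =
        (1 - (ψ y : ℂ)) * starRingEnd ℂ (k y) := fun y x => by
      rcases eq_or_ne y 1 with h | h
      · rw [hφe, h]; simp
      · rw [hφe, hk y x h]
    simp only [this, Finset.sum_const, Finset.card_univ, hcV, nsmul_eq_mul, ← Finset.mul_sum]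
    push_cast
    field_simp
  -- fixed points
  have hnotV : ∀ y x, y ≠ 1 → (e (y, x) : X) ∉ V := fun y x hy h => hy ((hmemV y x).1 h)
  have hCfix : ∀ s ∈ C, s • p = p ∧ s • q = q := by
    intro s hs
    by_cases hsV : s ∈ V
    · obtain ⟨y, hy⟩ : ∃ y : Y, y ≠ 1 := by
        have : Nontrivial Y := by
          rw [← Finite.one_lt_card_iff_nontrivial, hY]; norm_num
        exact exists_ne 1
      have h1 := hfix _ (e (y, ⟨s, hsV⟩)).2 (hnotV y _ hy)
      have h2 := hfix _ (e (y, 1)).2 (hnotV y _ hy)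
      simp only [he_coe, OneMemClass.coe_one, mul_one, mul_smul] at h1 h2
      constructor
      · exact smul_left_cancel (y : X) (((h1 p).2 (Or.inl rfl)).trans ((h2 p).2 (Or.inl rfl)).symm)
      · exact smul_left_cancel (y : X) (((h1 q).2 (Or.inr rfl)).trans ((h2 q).2 (Or.inr rfl)).symm)
    · exact ⟨(hfix s hs hsV p).2 (Or.inl rfl), (hfix s hs hsV q).2 (Or.inr rfl)⟩
  have hTI : ∀ g : X, ∀ s ∈ C, s ∉ V → g⁻¹ * s * g ∈ C → g ∈ C ∨ w₀ * g ∈ C := by
    intro g s hs hsV ht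
    obtain ⟨hp, hq⟩ := hCfix _ ht
    rw [mul_smul, mul_smul, inv_smul_eq_iff] at hp hq
    have hne : g • p ≠ g • q := fun h => hpq (smul_left_cancel g h)
    rcases (hfix s hs hsV _).1 hp with h1 | h1 <;> rcases (hfix s hs hsV _).1 hq with h2 | h2
    · exact absurd (h1.trans h2.symm) hne
    · exact Or.inl (hCpq g h1 h2)
    · exact Or.inr (hCpq _ (by rw [mul_smul, h1, hw₀q]) (by rw [mul_smul, h2, hw₀p]))
    · exact absurd (h1.trans h2.symm) hne
  have hw₀C : w₀ ∉ C := fun h => hpq ((hCfix _ h).1.symm.trans hw₀p)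
  -- the induced character
  set Φ : X → ℂ := indFun C φ with hΦdef
  have hΦcls : IsClassFunction X Φ := H13.indFun_isClassFunction C φ
  have hcardC : (Nat.card C : ℂ) ≠ 0 := by exact_mod_cast Nat.card_pos.ne'
  have hΦC : ∀ y x, y ≠ 1 → Φ (e (y, x)) = 2 - (ψ y : ℂ) - (ψ y : ℂ)⁻¹ := by
    intro y x hy
    set s : X := (e (y, x) : X) with hs
    have hsw : w₀ * s * w₀ = (e (y⁻¹, x) : X) := by
      rw [hs, he_coe, he_coe]
      have h1 := hw₀Y _ y.2
      rw [inv_eq_of_mul_eq_one_right hwz] at h1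
      calc w₀ * ((y : X) * x) * w₀ = w₀ * y * (x * w₀) := by group
        _ = w₀ * y * w₀ * x := by rw [← hw₀V _ x.2]; group
        _ = _ := by rw [h1]; rfl
    have key : ∀ g : X, extendByZero C φ (g⁻¹ * s * g) =
        (if g ∈ C then 1 - (ψ y : ℂ) else 0) + (if w₀ * g ∈ C then 1 - (ψ y : ℂ)⁻¹ else 0) := by
      intro g
      by_cases hg : g ∈ C
      · have hg' : w₀ * g ∉ C := fun h => hw₀C ((mul_mem_cancel_right hg).1 h)
        rw [if_pos hg, if_neg hg', add_zero, ← hφe y x]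
        have hm : g⁻¹ * s * g ∈ C :=
          C.mul_mem (C.mul_mem (C.inv_mem hg) (e (y, x)).2) hg
        rw [H13.extendByZero_mem C φ hm]
        show 1 - (η _ : ℂ) = 1 - (η _ : ℂ)
        rw [show (⟨_, hm⟩ : C) = (⟨g, hg⟩ : C)⁻¹ * e (y, x) * ⟨g, hg⟩ from rfl, map_mul, map_mul,
          map_inv, inv_mul_cancel_comm]
      by_cases hg' : w₀ * g ∈ C
      · rw [if_neg hg, if_pos hg', zero_add]
        obtain ⟨c, rfl⟩ : ∃ c : C, g = w₀ * c :=
          ⟨⟨_, hg'⟩, by rw [← mul_assoc, hwz, one_mul]⟩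
        have hval : (w₀ * (c : X))⁻¹ * s * (w₀ * c) = ((c⁻¹ * e (y⁻¹, x) * c : C) : X) := by
          rw [Subgroup.coe_mul, Subgroup.coe_mul, Subgroup.coe_inv, ← hsw, mul_inv_rev,
            inv_eq_of_mul_eq_one_right hwz]
          group
        rw [hval, H13.extendByZero_coe]
        show 1 - (η _ : ℂ) = _
        rw [map_mul, map_mul, map_inv, inv_mul_cancel_comm, hη, map_inv, Units.val_inv_eq_inv_val]
      rw [if_neg hg, if_neg hg', add_zero]
      by_cases hm : g⁻¹ * s * g ∈ C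
      · exfalso
        rcases hTI g s (e (y, x)).2 (hnotV y x hy) hm with h | h
        exacts [hg h, hg' h]
      · exact H13.extendByZero_notMem C φ hm
    have hc1 : (Finset.univ.filter (· ∈ C)).card = Nat.card C := by
      rw [Nat.card_eq_fintype_card, Fintype.card_subtype]
    have hc2 : (Finset.univ.filter (fun g => w₀ * g ∈ C)).card = Nat.card C := by
      rw [← hc1]
      refine Finset.card_equiv (Equiv.mulLeft w₀) fun g => ?_
      simp
    show (Nat.card C : ℂ)⁻¹ * _ = _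
    simp only [key, Finset.sum_add_distrib, Finset.sum_ite, Finset.sum_const, hc1, hc2,
      nsmul_eq_mul]
    field_simp
    ring
  have hΦ1 : Φ 1 = 0 := by
    rw [hΦdef, H13.indFun_apply_one, hφV 1 V.one_mem, mul_zero]
  have hΦw : Φ w = 0 := by
    show (Nat.card C : ℂ)⁻¹ * _ = 0
    rw [Finset.sum_eq_zero fun g _ => H13.extendByZero_notMem C φ fun h => hCodd _ h ?_, mul_zero]
    rw [show g⁻¹ * w * g = MulAut.conj g⁻¹ w by simp, MulEquiv.orderOf_eq, hw]
  have hgen : IsGeneralizedCharacter X Φ := H13.isGeneralizedCharacter_indFun C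
    ⟨fun _ => 1, (H12.linIrr η : C → ℂ), H12.isCharacter_one, H12.isCharacter_irr _,
      funext fun c => by simp [φ, H12.linIrr_apply]⟩
  have hΦone : classInner Φ (fun _ => 1) = 1 := by
    rw [hΦdef, H13.classInner_indFun_left C φ (fun _ _ => rfl),
      hinner (fun _ => 1) (fun _ => 1) fun _ _ _ => rfl]
    have h := hψsum 1 (by norm_num)
    simp only [pow_one] at h
    simp only [map_one, mul_one, Finset.sum_sub_distrib, h, Finset.sum_const, Finset.card_univ, hcY]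
    norm_num
  have hΦnorm : classInner Φ Φ = ((3 : ℕ) : ℂ) := by
    conv_lhs => arg 1; rw [hΦdef]
    rw [H13.classInner_indFun_left C φ hΦcls, hinner Φ _ hΦC]
    have : ∀ y, (1 - (ψ y : ℂ)) * starRingEnd ℂ (2 - (ψ y : ℂ) - (ψ y : ℂ)⁻¹) =
        3 - 3 * (ψ y : ℂ) ^ 1 + (ψ y : ℂ) ^ 2 - (ψ y : ℂ)⁻¹ := fun y => by
      simp only [map_sub, map_ofNat, map_inv₀, hψconj, inv_inv]
      linear_combination mul_inv_cancel₀ (ψ y).ne_zero
    rw [Finset.sum_congr rfl fun y _ => this y, Finset.sum_sub_distrib, Finset.sum_add_distrib,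
      Finset.sum_sub_distrib, ← Finset.mul_sum, hψsum 1 (by norm_num), hψsum 2 (by norm_num),
      hψsum', Finset.sum_const, Finset.card_univ, hcY]
    norm_num
  obtain ⟨χ₁, χ₂, hχ₁, hχ₂, -, hχ₂ne, hΦ⟩ := H14.norm_three hgen hΦnorm hΦone hΦ1
  obtain ⟨a, ha⟩ := H4.Eleven.irr_apply_involution ⟨χ₂, hχ₂⟩ hw
  obtain ⟨d, hd0, hd⟩ := H16.irr_one hχ₂
  have hd1 : χ₁ 1 = (d : ℂ) + 1 := by
    have h := congrFun hΦ 1
    simp only [hΦ1, Pi.add_apply, Pi.sub_apply, hd] at h
    linear_combination h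
  have ha1 : χ₁ w = (a : ℂ) + 1 := by
    have h := congrFun hΦ w
    simp only [hΦw, Pi.add_apply, Pi.sub_apply] at h
    linear_combination h + ha
  -- the permutation character
  set π : X → ℂ := fun g => (Nat.card (MulAction.fixedBy Ω g) : ℂ) with hπ
  have hπchar : IsCharacter X π := H4.Eleven.isCharacter_fixCount
  haveI : Nonempty Ω := ⟨p⟩
  have hπone : classInner π (fun _ => 1) = 1 := H4.Eleven.classInner_fix_one htrans
  have hπC : ∀ y x, y ≠ 1 → π (e (y, x)) = 2 := fun y x hy => by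
    have : MulAction.fixedBy Ω (e (y, x) : X) = {p, q} :=
      Set.ext fun c => hfix _ (e (y, x)).2 (hnotV y x hy) c
    simp [hπ, this, Set.ncard_pair hpq]
  have hπΦ : classInner π Φ = 2 := by
    rw [← H12.conj_classInner, hΦdef,
      H13.classInner_indFun_left C φ (H12.IsCharacter.isClassFunction hπchar),
      hinner π (fun _ => 2) hπC]
    have h := hψsum 1 (by norm_num)
    simp only [pow_one] at h
    simp only [map_ofNat, ← Finset.sum_mul, Finset.sum_sub_distrib, h, Finset.sum_const,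
      Finset.card_univ, hcY, map_mul, map_inv₀]
    norm_num [map_ofNat]
  obtain ⟨m₁, hm₁⟩ := H12.IsCharacter.classInner_nat hπchar
    (H12.isCharacter_irr (⟨χ₁, hχ₁⟩ : IrrCharacter X))
  have hm₂ : classInner π χ₂ ≠ 0 := by
    rw [hΦ, H12.classInner_sub_right, H12.classInner_add_right, hπone,
      show classInner π χ₁ = m₁ from hm₁] at hπΦ
    intro h
    rw [h] at hπΦ
    have : (0 : ℂ) = (m₁ : ℂ) + 1 := by linear_combination hπΦ
    exact Nat.cast_add_one_ne_zero m₁ this.symm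
  have hJc : (H4.Eleven.cls w).card = 15 * u := by rw [H4.Eleven.card_cls, hJ]
  set K := Nat.card {q : Ω × X // IsConj w q.2 ∧ q.2 • q.1 = w • q.1} with hKdef
  have hw2 : w * w = 1 := by rw [← sq, ← hw, pow_orderOf_eq_one]
  have hu0 : (0 : ℝ) < u := by exact_mod_cast huodd.pos
  have hbound : 45 * a ^ 2 ≤ 39 * (d : ℤ) := by
    have hS : ∑ s ∈ H4.Eleven.cls w, ∑ t ∈ H4.Eleven.cls w, π (s * t) =
        (((15 * u * K : ℕ) : ℝ) : ℂ) := by
      simp only [hπ, ← Nat.cast_sum, H4.Eleven.sum_cls_fix hw2, hJc, Complex.ofReal_natCast, hKdef]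
    have hne : (⟨fun _ => 1, H12.isIrrCharacter_one⟩ : IrrCharacter X) ≠ ⟨χ₂, hχ₂⟩ :=
      fun h => hχ₂ne (congrArg Subtype.val h).symm
    have h := H4.Eleven.sum_cls_char_ge hπchar hw hne hS (by rw [hπone]; exact one_ne_zero) hm₂
      (a := 1) (d := 1) (by simp) (by simp) ha hd
    rw [hJc] at h
    push_cast at h
    have hK : 3 * (K : ℝ) = 7 * (1 + 11 * (u : ℝ)) := by
      have : 3 * K = 7 * (1 + 11 * u) := by rw [← hf]; exact hagree
      exact_mod_cast this
    have hdR : (0 : ℝ) < d := by exact_mod_cast hd0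
    have h' : 15 * (u : ℝ) * ((d : ℝ) + (a : ℝ) ^ 2) ≤ (K : ℝ) * d := by
      rw [one_pow, div_one, show (1 : ℝ) + (a : ℝ) ^ 2 / d = ((d : ℝ) + a ^ 2) / d by field_simp,
        ← mul_div_assoc, div_le_iff₀ hdR] at h
      nlinarith
    have hu1 : (1 : ℝ) ≤ u := by exact_mod_cast huodd.pos
    have : (45 : ℝ) * (a : ℝ) ^ 2 ≤ 39 * d := by nlinarith
    exact_mod_cast this
  -- the sum over products of two members of `J`
  have hJsum : ∀ g : X, ∑ s ∈ H4.Eleven.cls w, ∑ t ∈ H4.Eleven.cls w,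
      extendByZero C φ (g⁻¹ * (s * t) * g) =
      ∑ s ∈ H4.Eleven.cls w, ∑ t ∈ H4.Eleven.cls w, extendByZero C φ (s * t) := fun g => by
    have hb : ∀ F : X → ℂ, ∑ s ∈ H4.Eleven.cls w, F (g⁻¹ * s * g) =
        ∑ s ∈ H4.Eleven.cls w, F s := fun F =>
      Finset.sum_nbij' (fun s => g⁻¹ * s * g) (fun s => g * s * g⁻¹)
        (fun s hs => by simpa using H4.Eleven.cls_conj s hs g⁻¹)
        (fun s hs => H4.Eleven.cls_conj s hs g)
        (fun s _ => by group) (fun s _ => by group) (fun s _ => rfl)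
    rw [← hb fun s => ∑ t ∈ H4.Eleven.cls w, extendByZero C φ (s * t)]
    refine Finset.sum_congr rfl fun s _ => ?_
    rw [← hb fun t => extendByZero C φ (g⁻¹ * s * g * t)]
    refine Finset.sum_congr rfl fun t _ => ?_
    congr 1
    group
  have hinner2 : ∀ s ∈ H4.Eleven.cls w, ∑ t ∈ H4.Eleven.cls w, extendByZero C φ (s * t) =
      ∑ c : C, (if s * (c : X) ∈ H4.Eleven.cls w then φ c else 0) := by
    intro s hs
    have hs2 : s * s = 1 := by
      obtain ⟨g, rfl⟩ := isConj_iff.1 (H4.Eleven.mem_cls.1 hs)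
      rw [show g * w * g⁻¹ * (g * w * g⁻¹) = g * (w * w) * g⁻¹ by group, hw2]; group
    rw [← Finset.sum_filter]
    symm
    refine Finset.sum_bij_ne_zero (fun c _ _ => s * (c : X)) (fun c h _ => (Finset.mem_filter.1 h).2)
      (fun c _ _ c' _ _ h => Subtype.ext (mul_left_cancel h)) (fun t ht h0 => ?_) (fun c _ _ => ?_)
    · by_cases hm : s * t ∈ C
      · refine ⟨⟨_, hm⟩, Finset.mem_filter.2 ⟨Finset.mem_univ _, ?_⟩, ?_, ?_⟩
        · rwa [← mul_assoc, hs2, one_mul]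
        · rwa [H13.extendByZero_mem C φ hm] at h0
        · rw [← mul_assoc, hs2, one_mul]
      · exact absurd (H13.extendByZero_notMem C φ hm) h0
    · rw [← mul_assoc, hs2, one_mul, H13.extendByZero_coe]
  have hN : ∀ c : C, ((H4.Eleven.cls w).filter fun s => s * (c : X) ∈ H4.Eleven.cls w).card =
      Nat.card {g : X // IsConj w g ∧ IsConj w (g * c)} := fun c => by
    rw [Nat.card_eq_fintype_card, Fintype.card_subtype]
    congr 1
    ext s
    simp [H4.Eleven.mem_cls]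
  have hT : ∑ s ∈ H4.Eleven.cls w, ∑ t ∈ H4.Eleven.cls w, extendByZero C φ (s * t) = 25 := by
    rw [Finset.sum_congr rfl hinner2, Finset.sum_comm, hsumC]
    simp only [← Finset.sum_filter, Finset.sum_const, hN, nsmul_eq_mul, hφe]
    have : ∀ y : Y, ∑ x : V, (Nat.card {g : X // IsConj w g ∧ IsConj w (g * (e (y, x) : X))} : ℂ) *
        (1 - (ψ y : ℂ)) = 5 * (1 - (ψ y : ℂ)) := by
      intro y
      rcases eq_or_ne y 1 with hy | hy
      · simp [hy]
      rw [Finset.sum_eq_single 1, hF5 _ ((hmemY y 1).2 rfl)]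
      · norm_num
      · intro h
        exact hnotV y 1 hy (by rw [h]; exact V.one_mem)
      · intro x _ hx
        rw [hF0 _ (e (y, x)).2 (hnotV y x hy) fun h => hx ((hmemY y x).1 h), Nat.cast_zero, zero_mul]
      · simp
    have h := hψsum 1 (by norm_num)
    simp only [pow_one] at h
    rw [Finset.sum_congr rfl fun y _ => this y, ← Finset.mul_sum, Finset.sum_sub_distrib, h,
      Finset.sum_const, Finset.card_univ, hcY]
    norm_num
  have hE1 : ∑ s ∈ H4.Eleven.cls w, ∑ t ∈ H4.Eleven.cls w, Φ (s * t) = 25 * (f : ℂ) * u := by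
    have : ∀ s t, Φ (s * t) = (Nat.card C : ℂ)⁻¹ * ∑ g, extendByZero C φ (g⁻¹ * (s * t) * g) :=
      fun s t => rfl
    simp only [this, ← Finset.mul_sum]
    rw [Finset.sum_congr rfl fun s _ => Finset.sum_comm, Finset.sum_comm,
      Finset.sum_congr rfl fun g _ => (hJsum g).trans hT, Finset.sum_const, Finset.card_univ,
      ← Nat.card_eq_fintype_card, hX, hC, nsmul_eq_mul]
    push_cast
    field_simp
  have hE2 : ∑ s ∈ H4.Eleven.cls w, ∑ t ∈ H4.Eleven.cls w, Φ (s * t) =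
      (15 * (u : ℂ)) ^ 2 * (1 + (a : ℂ) ^ 2 / d - ((a : ℂ) + 1) ^ 2 / ((d : ℂ) + 1)) := by
    simp only [hΦ, Pi.add_apply, Pi.sub_apply, Finset.sum_add_distrib, Finset.sum_sub_distrib]
    have h2 := H4.Eleven.sum_cls_irr ⟨χ₂, hχ₂⟩ w
    have h1 := H4.Eleven.sum_cls_irr ⟨χ₁, hχ₁⟩ w
    simp only [ha1, hd1, hJc] at h1
    simp only [show χ₂ w = (a : ℂ) from ha, hd, hJc] at h2
    rw [h1, h2]
    simp only [Finset.sum_const, hJc, nsmul_eq_mul]
    push_cast
    ring
  refine H4.Eleven.block_arith hd0 huodd hu5 (a := a) ?_ hbound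
  have hu' : (u : ℂ) ≠ 0 := by exact_mod_cast huodd.pos.ne'
  have hd' : (d : ℂ) ≠ 0 := by exact_mod_cast hd0.ne'
  have hd'' : (d : ℂ) + 1 ≠ 0 := Nat.cast_add_one_ne_zero d
  have h := hE1.symm.trans hE2
  rw [hf] at h
  push_cast at h
  field_simp at h
  have : (((1 + 11 * (u : ℤ)) * d * (d + 1) : ℤ) : ℂ) = ((9 * (u : ℤ) * (a - d) ^ 2 : ℤ) : ℂ) := by
    push_cast
    apply mul_left_cancel₀ (by norm_num : (25 : ℂ) ≠ 0)
    linear_combination h
  exact_mod_cast this

end H63.Eleven
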