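import Cfsg.Agent.H63.Eleven.CharB
import Cfsg.Agent.H63.Eleven.FactsL
import Cfsg.Agent.H63.Eleven.FactsJ
import Cfsg.Agent.H92.Eleven.UOne
import Cfsg.Agent.H92.Eleven.OddV
import Cfsg.Agent.H92.Eleven.Count
-- owner: helper92

set_option autoImplicit false

namespace H63.Eleven

universe u

variable {G : Type u} [Group G] [Finite G]

/-- Some line is `J₁`: then `G` is `J₁`. -/
theorem case_j1 (S : Sys G) (hG : IsSimpleGroup G) (hsub : S.SubHyp)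
    (h : ∃ a b : S.Pt, a ≠ b ∧ Cfsg.Spor.IsoJ1 ↥(a.1 ⊔ b.1)) : Cfsg.Spor.IsoJ1 G := by
  obtain ⟨a, b, hab, hJ⟩ := h
  haveI : Fact (Nat.Prime 2) := ⟨Nat.prime_two⟩
  have hL : H92.Eleven.JLine S (a.1 ⊔ b.1) := ⟨a, b, hab, rfl, hJ⟩
  obtain ⟨t, ht⟩ := exists_prime_orderOf_dvd_card' (G := ↥(a.1 ⊔ b.1)) 2
    (by rw [hL.card]; norm_num)
  have ht' : orderOf (t : G) = 2 := (Subgroup.orderOf_coe t).trans ht
  obtain ⟨c, hc, htc⟩ := hL.exists_fix t.2 ht'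
  let C : H92.Eleven.Conf S :=
    ⟨hG, hsub, a.1 ⊔ b.1, hL, t, t.2, ht', c, hc, htc⟩
  by_cases hu : C.u = 1
  · exact C.iso_of_u_one hu
  · exact absurd (C.u_eq_one (C.odd_v hu)) hu

end H63.Eleven
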