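import Cfsg.Agent.H63.Eleven.Kernel
import Cfsg.Agent.H45.Eleven.Ind
import Cfsg.Agent.H45.Eleven.Theta
import Cfsg.Agent.H45.Eleven.Arith
import Cfsg.Agent.H17.DefectZeroInvol
import Cfsg.Agent.H15.PSubTwo.Bound
import Cfsg.Agent.H81.Fitting
-- owner: helper45

set_option autoImplicit false

open Cfsg
open scoped ComplexConjugate

namespace H63.Eleven.ACore

universe u v

open H45.Eleven (ext ind)

variable {G : Type u} {Ω : Type v} [Group G] [Finite G] [MulAction G Ω] (A : ACore G Ω)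

include A in
/-- A character of degree one is trivial. -/
theorem irr_linear [Fintype G] {B : IrrCharacter G} (hB : (B : G → ℂ) 1 = 1) :
    (B : G → ℂ) = fun _ => 1 := by
  haveI := A.simple
  obtain ⟨g, h, hgh⟩ := A.noncomm
  have hmul := H14.linear_char_mul (H12.isCharacter_irr B) hB
  let f : G →* ℂ := { toFun := (B : G → ℂ), map_one' := hB, map_mul' := hmul }
  funext x
  rcases f.toHomUnits.normal_ker.eq_bot_or_eq_top with hk | hk
  · exfalso
    apply hgh
    apply (MonoidHom.ker_eq_bot_iff f.toHomUnits).1 hk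
    rw [map_mul, map_mul, mul_comm]
  · have : f.toHomUnits x = 1 := (hk ▸ Subgroup.mem_top x : x ∈ f.toHomUnits.ker)
    exact congrArg Units.val this

open scoped Classical in
/-- A good class of involutions is impossible, given a linear character of a point stabiliser. -/
theorem false_of_good (T : A.Good) (hu : Odd A.u) (h120 : A.v ≠ 120)
    (h : A.HasSigma ∨ 1 < A.v) : False := by
  letI := Fintype.ofFinite G
  haveI : Finite Ω := Nat.finite_of_card_ne_zero (by rw [A.card_points]; omega)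
  letI := Fintype.ofFinite Ω
  obtain ⟨K, hKW, -, hKcard, hKn, hKfix, hKnil⟩ := A.exists_kernel T.a
  obtain ⟨θ, hθ1, hθK, hθy, hθw⟩ := H45.Eleven.exists_theta A T h120 h K hKW hKn hKfix
    (by rw [hKcard, A.card_points])
  set n := Fintype.card Ω with hndef
  have hn : n = 11 * A.u + 1 := by rw [hndef, ← Nat.card_eq_fintype_card, A.card_points]
  have hwi : T.w⁻¹ = T.w := inv_eq_of_mul_eq_one_right T.ww
  have hinv : ∀ m : G, m • T.a = T.a → m • T.b = T.b → ext θ (T.w⁻¹ * m * T.w) = ext θ m := by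
    intro m hma hmb
    have hm' : (T.w⁻¹ * m * T.w) • T.a = T.a := by rw [hwi, mul_smul, mul_smul, T.wa, hmb, T.wb]
    rw [H45.Eleven.ext_mk θ hm', H45.Eleven.ext_mk θ hma]
    refine congrArg Units.val (hθw ⟨m, hma⟩ ⟨_, hm'⟩ hmb ?_)
    show T.w⁻¹ * m * T.w = T.w * m * T.w⁻¹
    rw [hwi]
  obtain ⟨X, Y, hXY, hsum, -, hinnY⟩ :=
    H45.Eleven.exists_split θ A.twoTrans T.hab T.wa hinv
  have hval : ∀ g, ind θ g = (X : G → ℂ) g + (Y : G → ℂ) g := fun g => congrFun hsum g
  set m := Nat.card ↥((MulAction.stabilizer G T.a) ⊓ MulAction.stabilizer G T.b) with hmdef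
  obtain ⟨hm10, hm5⟩ := A.card_M T.a T.b T.hab
  have hcardH : Nat.card (MulAction.stabilizer G T.a) = (11 * A.u) * m := by
    rw [H45.Eleven.card_stab A.twoTrans T.hab, ← hndef, hn, Nat.add_sub_cancel]
  haveI : MulAction.IsPretransitive G Ω := ⟨fun c d => by
    obtain ⟨e, he⟩ : ∃ e, e ≠ c := by
      by_cases hc : T.a = c
      · exact ⟨T.b, fun hb => T.hab (hc.trans hb.symm)⟩
      · exact ⟨T.a, hc⟩
    obtain ⟨e', he'⟩ : ∃ e', e' ≠ d := by
      by_cases hc : T.a = d
      · exact ⟨T.b, fun hb => T.hab (hc.trans hb.symm)⟩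
      · exact ⟨T.a, hc⟩
    obtain ⟨g, hg, -⟩ := A.twoTrans c e d e' he.symm he'.symm
    exact ⟨g, hg⟩⟩
  have hidx : (MulAction.stabilizer G T.a).index = n := by
    rw [MulAction.index_stabilizer_of_transitive, hndef, Nat.card_eq_fintype_card]
  have hcardG : Nat.card G = n * (11 * A.u) * m := by
    rw [← (MulAction.stabilizer G T.a).index_mul_card, hidx, hcardH]; ring
  -- degrees
  set d := charDegree (X : G → ℂ) with hddef
  set e := charDegree (Y : G → ℂ) with hedef
  have hd1 : (X : G → ℂ) 1 = (d : ℂ) := H12.irr_apply_one X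
  have he1 : (Y : G → ℂ) 1 = (e : ℂ) := H12.irr_apply_one Y
  have hdpos : 0 < d := H12.irr_degree_pos X
  have hepos : 0 < e := H12.irr_degree_pos Y
  have hde : d + e = n := by
    have h1 := hval 1
    rw [hd1, he1, ind, H12.indFun_one, map_one, Units.val_one, mul_one,
      hidx] at h1
    exact_mod_cast h1.symm
  -- values at the involution
  have hw0 : (X : G → ℂ) T.w + (Y : G → ℂ) T.w = 0 := by
    have hr : ∀ c : Ω, ∃ r : G, r • T.a = c := fun c => MulAction.exists_smul_eq G T.a c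
    choose r hr using hr
    rw [← hval, H45.Eleven.ind_apply θ hr]
    exact Finset.sum_eq_zero fun c hc => absurd (Finset.mem_filter.1 hc).2 (T.w_fpf c)
  obtain ⟨α, hα⟩ := H15.PSubTwo.exists_int_of_sq (H12.isCharacter_irr X) T.ww
  have hαY : (Y : G → ℂ) T.w = -(α : ℂ) := by
    rw [← hα]; linear_combination hw0
  -- the class of the involution
  set C : Finset G := Finset.univ.filter fun g => IsConj T.w g with hC
  have hCmem : ∀ g, g ∈ C ↔ IsConj T.w g := fun g => by simp [hC]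
  have hCconj : ∀ g ∈ C, ∀ c : G, c * g * c⁻¹ ∈ C := H24.class_invariant T.w
  have hCsq : ∀ g ∈ C, g⁻¹ = g ∧ ∀ c : Ω, g • c ≠ c := by
    intro g hg
    obtain ⟨k, rfl⟩ := isConj_iff.1 ((hCmem g).1 hg)
    refine ⟨by rw [mul_inv_rev, mul_inv_rev, inv_inv, hwi, mul_assoc], fun c hc => T.w_fpf (k⁻¹ • c) ?_⟩
    rw [mul_smul, mul_smul] at hc
    exact smul_left_cancel k (by rw [hc, smul_inv_smul])
  set k := (C.filter fun g => g • T.a = T.b).card with hk
  have hkpos : 0 < k := Finset.card_pos.2 ⟨T.w, Finset.mem_filter.2 ⟨(hCmem _).2 (IsConj.refl _), T.wa⟩⟩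
  have hcd : ∀ c c' : Ω, c ≠ c' → (C.filter fun g => g • c = c').card = k := by
    intro c c' hcc
    obtain ⟨f, hfa, hfb⟩ := A.twoTrans T.a T.b c c' T.hab hcc
    symm
    refine Finset.card_bij (fun g _ => f * g * f⁻¹) (fun g hg => ?_) (fun g _ g' _ he => by simpa using he)
      fun g hg => ⟨f⁻¹ * g * f, ?_, by group⟩
    · obtain ⟨h1, h2⟩ := Finset.mem_filter.1 hg
      refine Finset.mem_filter.2 ⟨hCconj g h1 f, ?_⟩
      rw [mul_smul, mul_smul, inv_smul_eq_iff.2 hfa.symm, h2, hfb]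
    · obtain ⟨h1, h2⟩ := Finset.mem_filter.1 hg
      refine Finset.mem_filter.2 ⟨by simpa using hCconj g h1 f⁻¹, ?_⟩
      rw [mul_smul, mul_smul, hfa, h2, inv_smul_eq_iff, hfb]
  have hCcard : C.card = 11 * A.u * k := by
    rw [Finset.card_eq_sum_card_fiberwise (f := fun g => g • T.a)
      (t := (Finset.univ : Finset Ω).erase T.a)
      fun g hg => Finset.mem_erase.2 ⟨(hCsq g hg).2 T.a, Finset.mem_univ _⟩,
      Finset.sum_congr rfl fun c hc => hcd T.a c (Finset.mem_erase.1 hc).1.symm, Finset.sum_const,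
      Finset.card_erase_of_mem (Finset.mem_univ _), Finset.card_univ, ← hndef, hn, smul_eq_mul,
      Nat.add_sub_cancel]
  have hr : ∀ c : Ω, ∃ r : G, r • T.a = c := fun c => MulAction.exists_smul_eq G T.a c
  choose r hr using hr
  have hterm : ∀ s ∈ C, ∀ t ∈ C, ∀ c : Ω, (s * t) • c = c →
      ext θ ((r c)⁻¹ * (s * t) * r c) = 1 := by
    intro s hs t ht c hfix
    have htc : t • c = s • c := by
      have h1 : s • t • c = c := by rw [← mul_smul, hfix]
      rw [← (hCsq s hs).1, eq_inv_smul_iff]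
      exact h1
    obtain ⟨f, hfa, hfb⟩ := A.twoTrans T.a T.b c (s • c) T.hab ((hCsq s hs).2 c).symm
    rw [H45.Eleven.ext_transport θ (show r c • T.a = f • T.a by rw [hr, hfa]) (s * t)]
    have key : ∀ g ∈ C, g • c = s • c → ∃ i : ℕ, f⁻¹ * g * f = T.w * T.y ^ i := by
      intro g hg hgc
      have hgc' : g • s • c = c := by
        rw [← hgc, ← mul_smul]
        nth_rewrite 1 [← (hCsq g hg).1]
        rw [inv_mul_cancel, one_smul]
      refine T.same _ ?_ ?_ ?_
      · obtain ⟨l, hl⟩ := isConj_iff.1 ((hCmem _).1 hg)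
        exact ⟨f⁻¹ * l, by rw [← hl]; group⟩
      · rw [mul_smul, mul_smul, hfa, hgc, inv_smul_eq_iff, hfb]
      · rw [mul_smul, mul_smul, hfb, hgc', inv_smul_eq_iff, hfa]
    obtain ⟨i, hi⟩ := key s hs rfl
    obtain ⟨j, hj⟩ := key t ht htc
    have hst : f⁻¹ * (s * t) * f = T.w * T.y ^ i * (T.w * T.y ^ j) := by
      rw [← hi, ← hj]; group
    have hz : T.w * T.y ^ i * (T.w * T.y ^ j) ∈ Subgroup.zpowers T.y := by
      rw [show T.w * T.y ^ i * (T.w * T.y ^ j) = T.w * T.y ^ i * T.w⁻¹ * T.y ^ j by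
        rw [hwi]; group, ← conj_pow, T.wy]
      exact mul_mem (pow_mem (inv_mem (Subgroup.mem_zpowers _)) _) (pow_mem (Subgroup.mem_zpowers _) _)
    have hza : (T.w * T.y ^ i * (T.w * T.y ^ j)) • T.a = T.a :=
      (Subgroup.zpowers_le.2 (show T.y ∈ MulAction.stabilizer G T.a from T.ya)) hz
    rw [hst, H45.Eleven.ext_mk θ hza, hθy ⟨_, hza⟩ hz, Units.val_one]
  have hLHS : ∑ s ∈ C, ∑ t ∈ C, ind θ (s * t) = ((n * C.card * k : ℕ) : ℂ) := by
    have h1 : ∀ s ∈ C, ∑ t ∈ C, ind θ (s * t) = ((n * k : ℕ) : ℂ) := by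
      intro s hs
      rw [Finset.sum_congr rfl (g := fun t => ∑ c ∈ Finset.univ.filter (fun c : Ω => (s * t) • c = c),
        (1 : ℂ)) fun t ht => by
          rw [H45.Eleven.ind_apply θ hr]
          exact Finset.sum_congr rfl fun c hc => hterm s hs t ht c (Finset.mem_filter.1 hc).2]
      rw [Finset.sum_congr rfl fun t _ => Finset.sum_filter _ _]
      rw [Finset.sum_comm, Finset.sum_congr rfl (g := fun _ => (k : ℂ)) fun c _ => ?_]
      · rw [Finset.sum_const, Finset.card_univ, ← hndef, nsmul_eq_mul]; push_cast; ring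
      rw [← Finset.sum_filter, Finset.sum_const, nsmul_eq_mul, mul_one,
        ← hcd c (s • c) ((hCsq s hs).2 c).symm]
      congr 2
      refine Finset.filter_congr fun t _ => ?_
      rw [mul_smul]
      conv_rhs => rw [← (hCsq s hs).1, eq_inv_smul_iff]
    rw [Finset.sum_congr rfl h1, Finset.sum_const, nsmul_eq_mul]
    push_cast; ring
  have hRHS : ∑ s ∈ C, ∑ t ∈ C, ind θ (s * t) =
      (C.card : ℂ) ^ 2 * (α : ℂ) ^ 2 / (d : ℂ) + (C.card : ℂ) ^ 2 * (α : ℂ) ^ 2 / (e : ℂ) := by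
    have hS : ∀ Z : IrrCharacter G, ∑ g ∈ C, (Z : G → ℂ) g = (C.card : ℂ) * (Z : G → ℂ) T.w :=
      fun Z => by
        rw [Finset.sum_eq_card_nsmul fun g hg => (H12.IsClassFunction.of_isConj
          (H12.irr_isClassFunction Z) ((hCmem g).1 hg)).symm, nsmul_eq_mul]
    simp only [hval, Finset.sum_add_distrib]
    rw [H24.sum_class_prod X C C hCconj hCconj, H24.sum_class_prod Y C C hCconj hCconj, hS, hS, hα,
      hαY, hd1, he1]
    ring
  have hprodN : d * e = 11 * A.u * α.natAbs ^ 2 := by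
    have hd0 : (d : ℂ) ≠ 0 := Nat.cast_ne_zero.2 hdpos.ne'
    have he0 : (e : ℂ) ≠ 0 := Nat.cast_ne_zero.2 hepos.ne'
    have h0 := hLHS.symm.trans hRHS
    rw [div_add_div _ _ hd0 he0, eq_div_iff (mul_ne_zero hd0 he0)] at h0
    have hs : (α : ℂ) ^ 2 = ((α.natAbs ^ 2 : ℕ) : ℂ) := by
      rw [← Int.cast_pow, ← Int.natAbs_sq]; norm_cast
    rw [hs, hCcard] at h0
    have h1 : n * (11 * A.u * k) * k * (d * e) =
        (11 * A.u * k) ^ 2 * α.natAbs ^ 2 * (d + e) := by
      have : ((n * (11 * A.u * k) * k * (d * e) : ℕ) : ℂ) =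
          (((11 * A.u * k) ^ 2 * α.natAbs ^ 2 * (d + e) : ℕ) : ℂ) := by
        push_cast at h0 ⊢
        linear_combination h0
      exact_mod_cast this
    rw [hde] at h1
    refine Nat.eq_of_mul_eq_mul_left (show 0 < n * (11 * A.u * k) * k by
      have := A.one_lt_u
      exact Nat.mul_pos (Nat.mul_pos (by omega) (Nat.mul_pos (by omega) hkpos)) hkpos) ?_
    rw [h1]; ring
  have hmpos : 0 < m := Nat.card_pos
  have hside : ∀ p : ℕ, p.Prime → p ∣ 11 * A.u → ¬ p ∣ m →
      p ^ (n * (11 * A.u) * m).factorization p ∣ d ∨ p ^ (n * (11 * A.u) * m).factorization p ∣ e :=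
    fun p hp hpN hpm => H45.Eleven.side hp hn (by have := A.one_lt_u; omega) hmpos hpN hpm hde
      (Dvd.intro _ hprodN.symm)
  have finish : ∀ (Z W : IrrCharacter G) (dz dw : ℕ), (W : G → ℂ) 1 = (dw : ℂ) → dw = charDegree (W : G → ℂ) →
      0 < dz → 0 < dw → dz + dw = n → dz * dw = 11 * A.u * α.natAbs ^ 2 → classInner (ind θ) (W : G → ℂ) = 1 →
      (∀ p : ℕ, p.Prime → p ∣ 11 * A.u → ¬ p ∣ m → p ^ (n * (11 * A.u) * m).factorization p ∣ dz) →
      False := by
    intro Z W dz dw hW hW' hz hw hsum hprod hinn hall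
    have h1 : dw = 1 := H45.Eleven.degree_one hu A.u_mod A.one_lt_u A.five_v_dvd hm10 hn hz hw hsum hprod
      (by rw [← hcardG, hW']; exact H12.irr_degree_dvd_card W) hall
    have hlin := A.irr_linear (B := W) (by rw [hW, h1, Nat.cast_one])
    rw [hlin, ind, H12.classInner_indFun _ _ (fun _ _ => rfl)] at hinn
    apply hθ1
    let ι : IrrCharacter (MulAction.stabilizer G T.a) := ⟨fun h => (θ h : ℂ), H12.isIrrCharacter_monoidHom θ⟩
    have hι : ι = H12.oneIrr (MulAction.stabilizer G T.a) := by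
      by_contra hne
      have h0 := H12.classInner_irr_ne hne
      rw [show classInner (ι : (MulAction.stabilizer G T.a) → ℂ) (H12.oneIrr (MulAction.stabilizer G T.a) : (MulAction.stabilizer G T.a) → ℂ) = 1 from hinn] at h0
      exact one_ne_zero h0
    refine MonoidHom.ext fun x => Units.ext ?_
    exact congrFun (congrArg (fun z : IrrCharacter (MulAction.stabilizer G T.a) => (z : (MulAction.stabilizer G T.a) → ℂ)) hι) x
  by_cases hX : ∀ p : ℕ, p.Prime → p ∣ 11 * A.u → ¬ p ∣ m →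
      p ^ (n * (11 * A.u) * m).factorization p ∣ d
  · exact finish X Y d e he1 rfl hdpos hepos hde hprodN hinnY hX
  push Not at hX
  obtain ⟨p, hp, hpN, hpm, hpd⟩ := hX
  have hpe := (hside p hp hpN hpm).resolve_left hpd
  by_cases hY : ∀ q : ℕ, q.Prime → q ∣ 11 * A.u → ¬ q ∣ m →
      q ^ (n * (11 * A.u) * m).factorization q ∣ e
  · refine finish Y X e d hd1 rfl hepos hdpos (by rw [add_comm, hde]) (by rw [mul_comm, hprodN]) ?_ hY
    rw [hsum, H12.classInner_add_left, H12.classInner_irr_self, H12.classInner_irr_ne hXY.symm, add_zero]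
  push Not at hY
  obtain ⟨q, hq, hqN, hqm, hqe⟩ := hY
  have hqd := (hside q hq hqN hqm).resolve_right hqe
  have hpq : p ≠ q := by
    rintro rfl
    exact hpd hqd
  haveI := hKnil
  haveI : Fact p.Prime := ⟨hp⟩
  haveI : Fact q.Prime := ⟨hq⟩
  obtain ⟨x, hx⟩ := exists_prime_orderOf_dvd_card' (G := K) p (by rw [hKcard]; exact hpN)
  obtain ⟨z, hz⟩ := exists_prime_orderOf_dvd_card' (G := K) q (by rw [hKcard]; exact hqN)
  have hcop : Nat.Coprime (orderOf x) (orderOf z) := by
    rw [hx, hz]; exact (Nat.coprime_primes hp hq).2 hpq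
  have hcomm := H81.commute_of_coprime_orderOf hKnil hcop
  have hord : orderOf ((x * z : K) : G) = p * q := by
    rw [Subgroup.orderOf_coe, hcomm.orderOf_mul_eq_mul_orderOf_of_coprime hcop, hx, hz]
  set g : G := ((x * z : K) : G) with hg
  have hgne : g ≠ 1 := fun h1 => by
    rw [h1, orderOf_one] at hord
    exact (Nat.one_lt_iff_ne_zero_and_ne_one.2 ⟨(Nat.mul_pos hp.pos hq.pos).ne',
      fun he => hp.one_lt.ne' (Nat.eq_one_of_mul_eq_one_right he)⟩).ne hord
  have hgK : g ∈ K := (x * z : K).2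
  have hga : g • T.a = T.a := A.W_le T.a (hKW hgK)
  have hψ : ind θ g = 1 := by
    rw [H45.Eleven.ind_stab θ A.twoTrans T.hab T.wa hinv hga, H45.Eleven.ext_mk θ hga,
      hθK ⟨g, hga⟩ hgK, Units.val_one, mul_one]
    rw [Finset.card_eq_one.2 ⟨T.a, ?_⟩, Nat.cast_one]
    ext c
    simp only [Finset.mem_filter, Finset.mem_univ, true_and, Finset.mem_singleton]
    exact ⟨fun hc => hKfix g hgK hgne c hc, fun hc => hc ▸ hga⟩
  rw [hval, H17.DefZero.vanish X hq (by rw [hcardG]; exact hqd) (by rw [hord]; exact dvd_mul_left q p),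
    H17.DefZero.vanish Y hp (by rw [hcardG]; exact hpe) (by rw [hord]; exact dvd_mul_right p q),
    add_zero] at hψ
  exact zero_ne_one hψ

end H63.Eleven.ACore
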