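import Mathlib
-- owner: helper10

/-!
A transfer lemma: an element of order 11 with small centraliser maps nontrivially to `C₁₁`.
-/

set_option autoImplicit false

namespace H63.Eleven

universe u

namespace Focal

section

variable {W : Type u} [Group W]

/-- transfer of an element of prime order with a single fixed coset -/
theorem transfer_eq_of_unique_fixed [Finite W] (M : Subgroup W) {A : Type} [CommGroup A]
    (φ : ↥M →* A) {p : ℕ} (hp : p.Prime) (x : W) (hx : x ^ p = 1) (hxM : x ∈ M)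
    (huniq : ∀ g : W, g⁻¹ * x * g ∈ M → g ∈ M) :
    MonoidHom.transfer φ x = φ ⟨x, hxM⟩ := by
  classical
  have : Fintype (Quotient (MulAction.orbitRel (Subgroup.zpowers x) (W ⧸ M))) := Fintype.ofFinite _
  rw [MonoidHom.transfer_eq_prod_quotient_orbitRel_zpowers_quot]
  have hfix : ∀ q : W ⧸ M, x • q = q → q = ((1 : W) : W ⧸ M) := by
    intro q
    induction q using QuotientGroup.induction_on with
    | _ g =>
      intro hq
      rw [MulAction.Quotient.smul_coe, smul_eq_mul, QuotientGroup.eq] at hq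
      have h1 : g⁻¹ * x⁻¹ * g ∈ M := by simpa [mul_assoc] using hq
      have h2 : g⁻¹ * x * g ∈ M := by simpa [mul_assoc] using M.inv_mem h1
      rw [QuotientGroup.eq]
      simpa using M.inv_mem (huniq g h2)
  have hone : x • ((1 : W) : W ⧸ M) = ((1 : W) : W ⧸ M) := by
    rw [MulAction.Quotient.smul_coe, smul_eq_mul, mul_one, QuotientGroup.eq]
    simpa using M.inv_mem hxM
  have hmp : ∀ q : W ⧸ M, Function.minimalPeriod (x • ·) q = 1 ∨
      Function.minimalPeriod (x • ·) q = p := by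
    intro q
    apply hp.eq_one_or_self_of_dvd
    apply Function.IsPeriodicPt.minimalPeriod_dvd
    show (fun r => x • r)^[p] q = q
    rw [smul_iterate]
    simp [hx]
  set q1 : Quotient (MulAction.orbitRel (Subgroup.zpowers x) (W ⧸ M)) :=
    Quotient.mk'' ((1 : W) : W ⧸ M) with hq1
  rw [Fintype.prod_eq_single q1]
  · have hout : q1.out = ((1 : W) : W ⧸ M) := by
      have h := (MulAction.orbitRel_apply).mp (Quotient.mk_out (s := MulAction.orbitRel
        (Subgroup.zpowers x) (W ⧸ M)) ((1 : W) : W ⧸ M))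
      obtain ⟨⟨y, hy⟩, hyq⟩ := h
      obtain ⟨k, rfl⟩ := Subgroup.mem_zpowers_iff.mp hy
      have hk : ∀ k : ℤ, (x ^ k) • ((1 : W) : W ⧸ M) = ((1 : W) : W ⧸ M) := by
        intro k
        rw [MulAction.Quotient.smul_coe, smul_eq_mul, mul_one, QuotientGroup.eq]
        simpa using M.zpow_mem hxM (-k)
      rw [← hk k]
      exact hyq.symm
    have hmem : Quotient.out q1.out ∈ M := by
      have h := Quotient.out_eq' q1.out
      rw [Quotient.out_eq'] at h
      have h' : ((Quotient.out q1.out : W) : W ⧸ M) = ((1 : W) : W ⧸ M) := by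
        rw [← hout]; exact Quotient.out_eq' _
      simpa using M.inv_mem (by simpa using QuotientGroup.eq.mp h')
    have hper : Function.minimalPeriod (x • ·) q1.out = 1 := by
      rw [Function.minimalPeriod_eq_one_iff_isFixedPt]
      show x • q1.out = q1.out
      rw [hout]; exact hone
    have e : (⟨(Quotient.out q1.out)⁻¹ * x ^ Function.minimalPeriod (x • ·) q1.out *
        Quotient.out q1.out, QuotientGroup.out_conj_pow_minimalPeriod_mem M x q1.out⟩ : ↥M) =
        ⟨_, hmem⟩⁻¹ * ⟨x, hxM⟩ * ⟨_, hmem⟩ := by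
      apply Subtype.ext
      simp [hper]
    rw [e, map_mul, map_mul, map_inv, mul_comm (φ _)⁻¹, inv_mul_cancel_right]
  · intro q hq
    rcases hmp q.out with h | h
    · exfalso
      apply hq
      have hf : x • q.out = q.out := by
        rw [Function.minimalPeriod_eq_one_iff_isFixedPt] at h
        exact h
      rw [hq1, ← hfix q.out hf, Quotient.out_eq']
    · have e : (⟨(Quotient.out q.out)⁻¹ * x ^ Function.minimalPeriod (x • ·) q.out *
        Quotient.out q.out, QuotientGroup.out_conj_pow_minimalPeriod_mem M x q.out⟩ : ↥M) = 1 := by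
        apply Subtype.ext
        simp [h, hx]
      rw [e, map_one]

/-- `x ^ a.1 * z ^ a.2` -/
def pw (x z : W) (a : ZMod 11 × ZMod 11) : W := x ^ a.1.val * z ^ a.2.val

variable {x z : W}

theorem pow_val_cast (hx : orderOf x = 11) (n : ℕ) : x ^ ((n : ZMod 11).val) = x ^ n := by
  rw [ZMod.val_natCast, ← hx, pow_mod_orderOf]

theorem pw_cast (hx : orderOf x = 11) (hz : orderOf z = 11) (i j : ℕ) :
    pw x z ((i : ZMod 11), (j : ZMod 11)) = x ^ i * z ^ j := by
  simp only [pw, pow_val_cast hx, pow_val_cast hz]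

theorem pw_add (hx : orderOf x = 11) (hz : orderOf z = 11) (h : x * z = z * x)
    (a b : ZMod 11 × ZMod 11) : pw x z (a + b) = pw x z a * pw x z b := by
  have hc : a + b = (((a.1.val + b.1.val : ℕ) : ZMod 11), ((a.2.val + b.2.val : ℕ) : ZMod 11)) := by
    ext <;> simp
  rw [hc, pw_cast hx hz]
  simp only [pw, pow_add]
  rw [mul_assoc (x ^ a.1.val), ← mul_assoc (x ^ b.1.val),
    ((show Commute x z from h).pow_pow _ _).eq]
  group

theorem pw_zero (x z : W) : pw x z 0 = 1 := by simp [pw]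

theorem pw_nsmul (hx : orderOf x = 11) (hz : orderOf z = 11) (h : x * z = z * x)
    (a : ZMod 11 × ZMod 11) (n : ℕ) : pw x z (n • a) = pw x z a ^ n := by
  induction n with
  | zero => simp [pw_zero]
  | succ n ih => rw [succ_nsmul, pw_add hx hz h, ih, pow_succ]

theorem pw_smul (hx : orderOf x = 11) (hz : orderOf z = 11) (h : x * z = z * x)
    (a : ZMod 11 × ZMod 11) (c : ZMod 11) : pw x z (c • a) = pw x z a ^ c.val := by
  rw [← pw_nsmul hx hz h]
  congr 1
  rw [← Nat.cast_smul_eq_nsmul (ZMod 11), ZMod.natCast_zmod_val]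

end

/-- the hypotheses of the main lemma -/
structure Cfg (W : Type u) [Group W] where
  fin : Finite W
  odd : Odd (Nat.card W)
  α : MulAut W
  x : W
  z : W
  hα : ∀ g, α (α (α (α (α g)))) = g
  hx : orderOf x = 11
  hz : orderOf z = 11
  hzx : z ∉ Subgroup.zpowers x
  hcomm : x * z = z * x
  hαx : α x = x
  m : ℕ
  hαz : α z = z ^ m
  hm : m % 11 ≠ 1
  hC : ∀ g, g * x = x * g → ∃ i j : ℕ, g = x ^ i * z ^ j
  hN : ∀ g : W, g * x * g⁻¹ ∈ Subgroup.zpowers x → g * x = x * g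

variable {W : Type u} [Group W] (C : Cfg W)

namespace Cfg

/-- coordinates -/
def p (a : ZMod 11 × ZMod 11) : W := pw C.x C.z a

theorem p_add (a b) : C.p (a + b) = C.p a * C.p b := pw_add C.hx C.hz C.hcomm a b
theorem p_zero : C.p 0 = 1 := pw_zero _ _
theorem p_smul (c : ZMod 11) (a) : C.p (c • a) = C.p a ^ c.val := pw_smul C.hx C.hz C.hcomm a c
theorem p_cast (i j : ℕ) : C.p ((i : ZMod 11), (j : ZMod 11)) = C.x ^ i * C.z ^ j :=
  pw_cast C.hx C.hz i j
theorem p_x : C.p (1, 0) = C.x := by simpa using C.p_cast 1 0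
theorem p_z : C.p (0, 1) = C.z := by simpa using C.p_cast 0 1

theorem p_comm (a b) : C.p a * C.p b = C.p b * C.p a := by
  rw [← C.p_add, ← C.p_add, add_comm]

theorem p_inj : Function.Injective C.p := by
  have key : ∀ a, C.p a = 1 → a = 0 := by
    intro a ha
    simp only [p, pw] at ha
    by_cases hb : a.2 = 0
    · rw [hb, ZMod.val_zero, pow_zero, mul_one, ← orderOf_dvd_iff_pow_eq_one, C.hx] at ha
      have := Nat.eq_zero_of_dvd_of_lt ha (ZMod.val_lt a.1)
      exact Prod.ext ((ZMod.val_eq_zero a.1).mp this) hb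
    · exfalso
      apply C.hzx
      have hzin : C.z ^ a.2.val ∈ Subgroup.zpowers C.x := by
        rw [eq_inv_of_mul_eq_one_right ha]
        exact inv_mem (pow_mem (Subgroup.mem_zpowers _) _)
      have h := pow_mem hzin (a.2⁻¹).val
      have : Fact (Nat.Prime 11) := ⟨by norm_num⟩
      rwa [← pow_mul, ← pow_val_cast C.hz, Nat.cast_mul, ZMod.natCast_zmod_val,
        ZMod.natCast_zmod_val, mul_inv_cancel₀ hb, ZMod.val_one, pow_one] at h
  intro a b hab
  have h : C.p (a - b) = 1 := by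
    have h2 := C.p_add (a - b) b
    rw [sub_add_cancel, hab] at h2
    exact mul_eq_right.mp h2.symm
  exact sub_eq_zero.mp (key _ h)

/-- the centraliser of `x` -/
def E : Subgroup W := Subgroup.centralizer {C.x}

theorem mem_E {g : W} : g ∈ C.E ↔ g * C.x = C.x * g := Subgroup.mem_centralizer_singleton_iff

theorem p_mem (a) : C.p a ∈ C.E := by
  rw [mem_E, ← C.p_x]
  exact C.p_comm _ _

theorem exists_p {g : W} (hg : g ∈ C.E) : ∃ a, g = C.p a := by
  obtain ⟨i, j, rfl⟩ := C.hC g (C.mem_E.mp hg)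
  exact ⟨_, (C.p_cast i j).symm⟩

theorem card_E : Nat.card C.E = 121 := by
  have e : (ZMod 11 × ZMod 11) ≃ C.E := Equiv.ofBijective (fun a => ⟨C.p a, C.p_mem a⟩)
    ⟨fun a b h => C.p_inj (congrArg Subtype.val h),
     fun g => by obtain ⟨a, ha⟩ := C.exists_p g.2; exact ⟨a, Subtype.ext ha.symm⟩⟩
  rw [← Nat.card_congr e, Nat.card_prod, Nat.card_zmod]

theorem mem_N_of_conj {g : W} (hg : g⁻¹ * C.x * g ∈ C.E) : g ∈ Subgroup.normalizer (C.E : Set W) := by
  have := C.fin
  have hle : C.E.map (MulAut.conj g).toMonoidHom ≤ C.E := by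
    rintro _ ⟨e, he, rfl⟩
    show g * e * g⁻¹ ∈ C.E
    obtain ⟨a, rfl⟩ := C.exists_p he
    obtain ⟨b, hb⟩ := C.exists_p hg
    have h1 : C.p a * (g⁻¹ * C.x * g) = (g⁻¹ * C.x * g) * C.p a := by rw [hb]; exact C.p_comm _ _
    rw [C.mem_E]
    calc g * C.p a * g⁻¹ * C.x = g * (C.p a * (g⁻¹ * C.x * g)) * g⁻¹ := by group
      _ = g * ((g⁻¹ * C.x * g) * C.p a) * g⁻¹ := by rw [h1]
      _ = C.x * (g * C.p a * g⁻¹) := by group
  have heq : C.E.map (MulAut.conj g).toMonoidHom = C.E := by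
    apply Subgroup.eq_of_le_of_card_ge hle
    rw [Subgroup.card_map_of_injective (MulAut.conj g).injective]
  rw [Subgroup.mem_normalizer_iff]
  intro h
  constructor
  · intro hh
    rw [← heq]
    exact ⟨h, hh, rfl⟩
  · intro hh
    rw [← heq] at hh
    obtain ⟨e, he, hee⟩ := hh
    exact mul_left_cancel (mul_right_cancel hee) ▸ he

/-- the normaliser of `E` -/
def N : Subgroup W := Subgroup.normalizer (C.E : Set W)

theorem E_le_N : C.E ≤ C.N := Subgroup.le_normalizer

theorem conj_mem {n g : W} (hn : n ∈ C.N) (hg : g ∈ C.E) : n * g * n⁻¹ ∈ C.E :=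
  (Subgroup.mem_normalizer_iff.mp hn g).mp hg

/-- conjugates of `x` under `N`, in coordinates -/
def S : Set (ZMod 11 × ZMod 11) := {a | ∃ n ∈ C.N, n * C.x * n⁻¹ = C.p a}

theorem exists_S {n : W} (hn : n ∈ C.N) : ∃ a ∈ C.S, n * C.x * n⁻¹ = C.p a := by
  obtain ⟨a, ha⟩ := C.exists_p (C.conj_mem hn (C.p_x ▸ C.p_mem (1, 0)))
  exact ⟨a, ⟨n, hn, ha⟩, ha⟩

theorem card_N : Nat.card C.N = Nat.card C.S * 121 := by
  classical
  have := C.fin
  let g : ↥C.N → ↥C.S := fun n =>
    ⟨(C.exists_S n.2).choose, (C.exists_S n.2).choose_spec.1⟩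
  have hg : ∀ n : ↥C.N, (n : W) * C.x * (n : W)⁻¹ = C.p (g n).1 :=
    fun n => (C.exists_S n.2).choose_spec.2
  have hgeq : ∀ a b : ↥C.N, a⁻¹ * b ∈ C.E.subgroupOf C.N ↔ g a = g b := by
    intro a b
    rw [Subgroup.mem_subgroupOf, C.mem_E, Subtype.ext_iff, ← C.p_inj.eq_iff, ← hg a, ← hg b]
    push_cast
    constructor
    · intro h
      calc (a : W) * C.x * (a : W)⁻¹ = a * (C.x * ((a : W)⁻¹ * b)) * (b : W)⁻¹ := by group
        _ = a * (((a : W)⁻¹ * b) * C.x) * (b : W)⁻¹ := by rw [h]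
        _ = _ := by group
    · intro h
      calc (a : W)⁻¹ * b * C.x = (a : W)⁻¹ * ((b : W) * C.x * (b : W)⁻¹) * b := by group
        _ = (a : W)⁻¹ * ((a : W) * C.x * (a : W)⁻¹) * b := by rw [h]
        _ = _ := by group
  let f : ↥C.N ⧸ C.E.subgroupOf C.N → ↥C.S :=
    Quotient.lift g (fun a b h => (hgeq a b).mp (QuotientGroup.leftRel_apply.mp h))
  have hf : Function.Bijective f := by
    constructor
    · intro q1 q2
      induction q1 using QuotientGroup.induction_on with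
      | _ a => induction q2 using QuotientGroup.induction_on with
        | _ b => intro h; exact QuotientGroup.eq.mpr ((hgeq a b).mpr h)
    · rintro ⟨a, n, hn, ha⟩
      refine ⟨((⟨n, hn⟩ : ↥C.N) : ↥C.N ⧸ C.E.subgroupOf C.N), Subtype.ext (C.p_inj ?_)⟩
      show C.p (g ⟨n, hn⟩).1 = _
      rw [← hg ⟨n, hn⟩]; exact ha
  rw [← Nat.card_congr (Equiv.ofBijective f hf), ← C.card_E,
    ← Nat.card_congr (Subgroup.subgroupOfEquivOfLe C.E_le_N).toEquiv]
  exact Subgroup.card_eq_card_quotient_mul_card_subgroup _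

theorem α_p (a : ZMod 11 × ZMod 11) : C.α (C.p a) = C.p (a.1, (C.m : ZMod 11) * a.2) := by
  conv_lhs => rw [p, pw, map_mul, map_pow, map_pow, C.hαx, C.hαz, ← pow_mul]
  rw [← C.p_cast]
  simp [mul_comm]

theorem α_pow5 (a : ZMod 11) : (C.m : ZMod 11) ^ 5 * a = a := by
  have h := C.hα (C.p (0, a))
  simp only [α_p] at h
  have h2 := congrArg Prod.snd (C.p_inj h)
  simpa [pow_succ, mul_assoc] using h2

theorem α_mem_E {g : W} (hg : g ∈ C.E) : C.α g ∈ C.E := by
  obtain ⟨a, rfl⟩ := C.exists_p hg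
  rw [α_p]; exact C.p_mem _

theorem α_mem_N {g : W} (hg : g ∈ C.N) : C.α g ∈ C.N := by
  apply C.mem_N_of_conj
  have h : g⁻¹ * C.x * g ∈ C.E := by
    have := C.conj_mem (inv_mem hg) (C.p_x ▸ C.p_mem (1, 0))
    simpa using this
  have h2 := C.α_mem_E h
  rwa [map_mul, map_mul, map_inv, C.hαx] at h2

theorem S_one : ((1, 0) : ZMod 11 × ZMod 11) ∈ C.S := ⟨1, one_mem _, by simp [p_x]⟩

theorem S_scalar {a b : ZMod 11 × ZMod 11} (ha : a ∈ C.S) (hb : b ∈ C.S) (c : ZMod 11)
    (h : b = c • a) : b = a := by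
  obtain ⟨n, hn, hna⟩ := ha
  obtain ⟨k, hk, hkb⟩ := hb
  have h1 : (n⁻¹ * k) * C.x * (n⁻¹ * k)⁻¹ ∈ Subgroup.zpowers C.x := by
    have : (n⁻¹ * k) * C.x * (n⁻¹ * k)⁻¹ = C.x ^ c.val := by
      calc (n⁻¹ * k) * C.x * (n⁻¹ * k)⁻¹ = n⁻¹ * (k * C.x * k⁻¹) * n := by group
        _ = n⁻¹ * (n * C.x * n⁻¹) ^ c.val * n := by rw [hkb, h, p_smul, hna]
        _ = C.x ^ c.val := by rw [conj_pow]; group
    rw [this]; exact pow_mem (Subgroup.mem_zpowers _) _
  have h2 := C.hN _ h1
  apply C.p_inj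
  rw [← hna, ← hkb]
  calc k * C.x * k⁻¹ = n * ((n⁻¹ * k) * C.x) * k⁻¹ := by group
    _ = n * (C.x * (n⁻¹ * k)) * k⁻¹ := by rw [h2]
    _ = n * C.x * n⁻¹ := by group

theorem S_fixed {a : ZMod 11 × ZMod 11} (ha : a ∈ C.S) (h0 : a.2 = 0) : a = (1, 0) :=
  C.S_scalar C.S_one ha a.1 (Prod.ext (by simp) (by simp [h0]))

theorem S_ne_zero {a : ZMod 11 × ZMod 11} (ha : a ∈ C.S) : a ≠ 0 := by
  rintro rfl
  exact absurd (congrArg Prod.fst (C.S_fixed ha rfl)) (by decide)

theorem card_S : Nat.card C.S = 1 ∨ Nat.card C.S = 11 := by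
  classical
  have := C.fin
  have : Fact (Nat.Prime 11) := ⟨by norm_num⟩
  have hodd : Odd (Nat.card C.S) := by
    have h : Odd (Nat.card C.N) := C.odd.of_dvd_nat (Subgroup.card_subgroup_dvd_card _)
    rw [C.card_N] at h
    exact h.of_dvd_nat (Dvd.intro _ rfl)
  -- congruence mod 5
  have hmem : ∀ a ∈ C.S, (a.1, (C.m : ZMod 11) * a.2) ∈ C.S := by
    rintro a ⟨n, hn, hna⟩
    refine ⟨C.α n, C.α_mem_N hn, ?_⟩
    rw [← C.α_p, ← hna, map_mul, map_mul, map_inv, C.hαx]
  let f : Function.End ↥C.S := fun a => ⟨_, hmem a.1 a.2⟩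
  have hiter : ∀ (k : ℕ) (a : ↥C.S), ((f^[k]) a).1 = (a.1.1, (C.m : ZMod 11) ^ k * a.1.2) := by
    intro k
    induction k with
    | zero => intro a; simp; rfl
    | succ k ih =>
      intro a
      rw [Function.iterate_succ_apply']
      show ((f^[k] a).1.1, _) = _
      rw [ih a, pow_succ', mul_assoc]
  have hf5 : f ^ 5 ^ 1 = 1 := by
    funext a
    show (f^[5 ^ 1]) a = a
    apply Subtype.ext
    rw [pow_one, hiter, C.α_pow5]
  have : Fact (Nat.Prime 5) := ⟨by norm_num⟩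
  have : Fintype ↥C.S := Fintype.ofFinite _
  have hmod := Equiv.Perm.card_fixedPoints_modEq hf5
  have hfix : Nat.card (Function.fixedPoints f) = 1 := by
    rw [Nat.card_eq_one_iff_unique]
    have hu : ∀ a : ↥(Function.fixedPoints f), a.1.1 = (1, 0) := by
      rintro ⟨⟨a, ha⟩, hfa⟩
      have h := congrArg (fun b : ↥C.S => b.1.2) hfa
      simp only [f] at h
      apply C.S_fixed ha
      by_contra h0
      apply C.hm
      have h1 : ((C.m : ℕ) : ZMod 11) = ((1 : ℕ) : ZMod 11) := by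
        rw [Nat.cast_one]
        exact mul_right_cancel₀ h0 (by rw [one_mul]; exact h)
      have h2 := (ZMod.natCast_eq_natCast_iff' _ _ _).mp h1
      simpa using h2
    refine ⟨⟨fun a b => Subtype.ext (Subtype.ext ((hu a).trans (hu b).symm))⟩,
      ⟨⟨⟨(1, 0), C.S_one⟩, Subtype.ext (by simp [f])⟩⟩⟩
  rw [← Nat.card_eq_fintype_card, ← Nat.card_eq_fintype_card, hfix] at hmod
  have hle : Nat.card C.S ≤ 12 := by
    let key : ↥C.S → Option (ZMod 11) := fun a =>
      if a.1.1 = 0 then none else some (a.1.2 / a.1.1)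
    have hk : Function.Injective key := by
      rintro ⟨a, ha⟩ ⟨b, hb⟩ h
      simp only [key] at h
      apply Subtype.ext
      show a = b
      have ha0 := C.S_ne_zero ha
      by_cases h1 : a.1 = 0 <;> by_cases h2 : b.1 = 0 <;> simp [h1, h2] at h
      · have ha2 : a.2 ≠ 0 := fun h3 => ha0 (Prod.ext h1 h3)
        refine (C.S_scalar ha hb (b.2 / a.2) (Prod.ext ?_ ?_)).symm
        · simp [h1, h2]
        · simp [div_mul_cancel₀ _ ha2]
      · refine (C.S_scalar ha hb (b.1 / a.1) (Prod.ext ?_ ?_)).symm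
        · simp [div_mul_cancel₀ _ h1]
        · rw [Prod.smul_snd, smul_eq_mul]
          field_simp at h ⊢
          linear_combination -h
    have h := Nat.card_le_card_of_injective key hk
    simpa [Nat.card_eq_fintype_card] using h
  obtain ⟨k, hk⟩ := hodd
  unfold Nat.ModEq at hmod
  omega

theorem E_comm {a b : W} (ha : a ∈ C.E) (hb : b ∈ C.E) : a * b = b * a := by
  obtain ⟨i, rfl⟩ := C.exists_p ha
  obtain ⟨j, rfl⟩ := C.exists_p hb
  exact C.p_comm i j

/-- first coordinate on `E` -/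
theorem exists_hom_E : ∃ θ : ↥C.E →* Multiplicative (ZMod 11),
    ∀ h : C.x ∈ C.E, θ ⟨C.x, h⟩ ≠ 1 := by
  let φ : Multiplicative (ZMod 11 × ZMod 11) →* ↥C.E :=
    { toFun := fun a => ⟨C.p a.toAdd, C.p_mem _⟩
      map_one' := Subtype.ext C.p_zero
      map_mul' := fun a b => Subtype.ext (C.p_add _ _) }
  have hφ : Function.Bijective φ :=
    ⟨fun a b h => C.p_inj (congrArg Subtype.val h),
     fun g => by
      obtain ⟨a, ha⟩ := C.exists_p g.2
      exact ⟨Multiplicative.ofAdd a, Subtype.ext ha.symm⟩⟩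
  let e := MulEquiv.ofBijective φ hφ
  refine ⟨(AddMonoidHom.toMultiplicative (AddMonoidHom.fst (ZMod 11) (ZMod 11))).comp
    e.symm.toMonoidHom, fun h => ?_⟩
  have he : e.symm ⟨C.x, h⟩ = Multiplicative.ofAdd ((1, 0) : ZMod 11 × ZMod 11) := by
    rw [MulEquiv.symm_apply_eq]
    exact Subtype.ext C.p_x.symm
  show Multiplicative.ofAdd (e.symm ⟨C.x, h⟩).toAdd.1 ≠ 1
  rw [he]
  decide

theorem case_one (h : Nat.card C.S = 1) : ∃ θ : W →* Multiplicative (ZMod 11), θ C.x ≠ 1 := by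
  have := C.fin
  have hNE : C.N ≤ C.E := by
    intro n hn
    obtain ⟨a, haS, ha⟩ := C.exists_S hn
    have : Subsingleton ↥C.S := (Nat.card_eq_one_iff_unique.mp h).1
    have h1 : a = (1, 0) := congrArg Subtype.val (Subsingleton.elim (⟨a, haS⟩ : ↥C.S) ⟨_, C.S_one⟩)
    rw [h1, C.p_x, mul_inv_eq_iff_eq_mul] at ha
    exact C.mem_E.mpr ha
  obtain ⟨θ, hθ⟩ := C.exists_hom_E
  have hxE : C.x ∈ C.E := C.mem_E.mpr rfl
  refine ⟨MonoidHom.transfer θ, ?_⟩
  rw [transfer_eq_of_unique_fixed C.E θ (p := 11) (by norm_num) C.x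
    (C.hx ▸ pow_orderOf_eq_one C.x) hxE (fun g hg => hNE (C.mem_N_of_conj hg))]
  exact hθ hxE

theorem z_central (h : Nat.card C.S = 11) {n : W} (hn : n ∈ C.N) : n * C.z = C.z * n := by
  have := C.fin
  have : Fact (Nat.Prime 11) := ⟨by norm_num⟩
  have hP : IsPGroup 11 ↥C.N := IsPGroup.of_card (n := 3) (by rw [C.card_N, h]; rfl)
  have : Nontrivial ↥C.N :=
    Finite.one_lt_card_iff_nontrivial.mp (by rw [C.card_N, h]; norm_num)
  have := hP.center_nontrivial
  obtain ⟨⟨⟨c, hcN⟩, hc⟩, hne⟩ := exists_ne (1 : ↥(Subgroup.center ↥C.N))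
  have hcen : ∀ k ∈ C.N, k * c = c * k := fun k hk =>
    congrArg Subtype.val (Subgroup.mem_center_iff.mp hc ⟨k, hk⟩)
  obtain ⟨a, rfl⟩ := C.exists_p
    (C.mem_E.mpr (hcen C.x (C.E_le_N (C.mem_E.mpr rfl))).symm)
  have hcen' : ∀ b, (∀ k ∈ C.N, k * C.p b = C.p b * k) → ∀ c : ZMod 11,
      ∀ k ∈ C.N, k * C.p (c • b) = C.p (c • b) * k := by
    intro b hb c k hk
    rw [C.p_smul]
    exact (show Commute k (C.p b) from hb k hk).pow_right _
  have hsol : ∀ b : ZMod 11 × ZMod 11, (∀ k ∈ C.N, k * C.p b = C.p b * k) →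
      b.2 = 0 → b.1 = 0 := by
    intro b hb h2
    by_contra h1
    have hxc := hcen' b hb b.1⁻¹
    have hbx : b.1⁻¹ • b = ((1, 0) : ZMod 11 × ZMod 11) :=
      Prod.ext (by simp [inv_mul_cancel₀ h1]) (by simp [h2])
    rw [hbx, C.p_x] at hxc
    have hsub : ∀ s ∈ C.S, s = ((1, 0) : ZMod 11 × ZMod 11) := by
      rintro s ⟨k, hk, hks⟩
      apply C.p_inj
      rw [← hks, hxc k hk, C.p_x]
      group
    have : Subsingleton ↥C.S :=
      ⟨fun s t => Subtype.ext ((hsub s.1 s.2).trans (hsub t.1 t.2).symm)⟩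
    have h1 := Finite.card_le_one_iff_subsingleton.mpr this
    omega
  have ha2 : a.2 ≠ 0 := fun h2 => hne (Subtype.ext (Subtype.ext (by
    show C.p a = 1
    rw [← C.p_zero]
    exact congrArg C.p (Prod.ext (hsol a hcen h2) h2))))
  have hm1 : (C.m : ZMod 11) - 1 ≠ 0 := by
    intro h0
    apply C.hm
    have h1 : ((C.m : ℕ) : ZMod 11) = ((1 : ℕ) : ZMod 11) := by
      rw [Nat.cast_one]; exact sub_eq_zero.mp h0
    simpa using (ZMod.natCast_eq_natCast_iff' _ _ _).mp h1
  have hα' : ∀ k ∈ C.N, ∃ l ∈ C.N, C.α l = k := fun k hk =>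
    ⟨_, C.α_mem_N (C.α_mem_N (C.α_mem_N (C.α_mem_N hk))), C.hα k⟩
  have hd : ∀ k ∈ C.N, k * C.p (0, ((C.m : ZMod 11) - 1) * a.2) =
      C.p (0, ((C.m : ZMod 11) - 1) * a.2) * k := by
    intro k hk
    obtain ⟨l, hl, hlk⟩ := hα' k hk
    have h1 : Commute k (C.p (a.1, (C.m : ZMod 11) * a.2)) := by
      have := congrArg C.α (hcen l hl)
      rw [map_mul, map_mul, hlk, C.α_p] at this
      exact this
    have h2 : Commute k (C.p a) := hcen k hk
    have e : C.p (0, ((C.m : ZMod 11) - 1) * a.2) =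
        C.p (a.1, (C.m : ZMod 11) * a.2) * (C.p a)⁻¹ := by
      rw [eq_mul_inv_iff_mul_eq, ← C.p_add]
      congr 1
      exact Prod.ext (by simp) (by simp; ring)
    rw [e]
    exact h1.mul_right h2.inv_right
  have hz := hcen' _ hd (((C.m : ZMod 11) - 1) * a.2)⁻¹ n hn
  have e : ((((C.m : ZMod 11) - 1) * a.2)⁻¹ • ((0, ((C.m : ZMod 11) - 1) * a.2) :
      ZMod 11 × ZMod 11)) = (0, 1) :=
    Prod.ext (by simp) (by simp only [Prod.smul_snd, smul_eq_mul]; exact inv_mul_cancel₀ (mul_ne_zero hm1 ha2))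
  rwa [e, C.p_z] at hz

/-- the normaliser of `⟨z⟩` -/
def M : Subgroup W := Subgroup.normalizer (Subgroup.zpowers C.z : Set W)

theorem conj_z_of_commute (h : Nat.card C.S = 11) {g : W}
    (hg : (g * C.z * g⁻¹) * C.x = C.x * (g * C.z * g⁻¹)) :
    g * C.z * g⁻¹ ∈ Subgroup.zpowers C.z := by
  classical
  have := C.fin
  have : Fact (Nat.Prime 11) := ⟨by norm_num⟩
  obtain ⟨a, ha⟩ := C.exists_p (C.mem_E.mpr hg)
  by_cases h1 : a.1 = 0
  · rw [ha, p, pw, h1, ZMod.val_zero, pow_zero, one_mul]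
    exact pow_mem (Subgroup.mem_zpowers _) _
  exfalso
  have hnz : ∀ b ∈ C.S, b.1 ≠ 0 := by
    intro b hb hb1
    obtain ⟨n, hn, hnb⟩ := hb
    have hb2 : n⁻¹ * C.p b * n = C.p b := by
      have hc : Commute n⁻¹ (C.p b) := by
        rw [p, pw, hb1, ZMod.val_zero, pow_zero, one_mul]
        exact (show Commute n⁻¹ C.z from (C.z_central h (inv_mem hn))).pow_right _
      rw [hc.eq, inv_mul_cancel_right]
    have hxb : C.p (1, 0) = C.p b := by
      rw [C.p_x, ← hb2, ← hnb]; group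
    have := congrArg Prod.fst (C.p_inj hxb)
    simp [hb1] at this
  let key : ↥C.S → ZMod 11 := fun b => b.1.2 / b.1.1
  have hk : Function.Injective key := by
    rintro ⟨b, hb⟩ ⟨c, hc⟩ he
    simp only [key] at he
    have hb1 := hnz b hb
    have hc1 := hnz c hc
    apply Subtype.ext
    show b = c
    refine (C.S_scalar hb hc (c.1 / b.1) (Prod.ext ?_ ?_)).symm
    · simp [div_mul_cancel₀ _ hb1]
    · rw [Prod.smul_snd, smul_eq_mul]
      field_simp at he ⊢
      linear_combination -he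
  have hbij := hk.bijective_of_nat_card_le (by rw [h, Nat.card_zmod])
  obtain ⟨⟨b, hb⟩, hbk⟩ := hbij.2 (a.2 / a.1)
  simp only [key] at hbk
  have hb1 := hnz b hb
  have hab : b = (b.1 / a.1) • a := by
    refine Prod.ext ?_ ?_
    · simp [div_mul_cancel₀ _ h1]
    · rw [Prod.smul_snd, smul_eq_mul]
      field_simp at hbk ⊢
      linear_combination hbk
  obtain ⟨n, hn, hnb⟩ := hb
  have hb' : C.p b = (g * C.z * g⁻¹) ^ (b.1 / a.1).val := by
    rw [ha, ← C.p_smul, ← hab]
  have hF : ∀ k : ↥C.N, n⁻¹ * (g * k * g⁻¹) * n ∈ C.E := by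
    intro k
    rw [C.mem_E]
    have hz : Commute (g * (k : W) * g⁻¹) (C.p b) := by
      rw [hb']
      exact ((show Commute (k : W) C.z from C.z_central h k.2).conj g).pow_right _
    rw [← hnb] at hz
    calc n⁻¹ * (g * k * g⁻¹) * n * C.x
        = n⁻¹ * ((g * k * g⁻¹) * (n * C.x * n⁻¹)) * n := by group
      _ = n⁻¹ * ((n * C.x * n⁻¹) * (g * k * g⁻¹)) * n := by rw [hz.eq]
      _ = C.x * (n⁻¹ * (g * k * g⁻¹) * n) := by group
  have hle := Nat.card_le_card_of_injective (fun k : ↥C.N => (⟨_, hF k⟩ : ↥C.E))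
    (fun k l hkl => by
      have := congrArg Subtype.val hkl
      exact Subtype.ext (mul_left_cancel (mul_right_cancel (mul_left_cancel (mul_right_cancel this)))))
  rw [C.card_N, h, C.card_E] at hle
  omega

theorem mem_M_of_conj_x (h : Nat.card C.S = 11) {g : W} (hg : g⁻¹ * C.x * g ∈ C.M) : g ∈ C.M := by
  have := C.fin
  have : Fact (Nat.Prime 11) := ⟨by norm_num⟩
  set y := g⁻¹ * C.x * g with hy
  have hyz : y * C.z * y⁻¹ ∈ Subgroup.zpowers C.z :=
    (Subgroup.mem_normalizer_iff.mp hg C.z).mp (Subgroup.mem_zpowers _)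
  obtain ⟨k, hk⟩ := Submonoid.mem_powers_iff _ _ |>.mp
    ((isOfFinOrder_of_finite C.z).mem_powers_iff_mem_zpowers.mpr hyz)
  have hit : ∀ j : ℕ, y ^ j * C.z * (y ^ j)⁻¹ = C.z ^ k ^ j := by
    intro j
    induction j with
    | zero => simp
    | succ j ih =>
      calc y ^ (j + 1) * C.z * (y ^ (j + 1))⁻¹ = y * (y ^ j * C.z * (y ^ j)⁻¹) * y⁻¹ := by
            rw [pow_succ']; group
        _ = (y * C.z * y⁻¹) ^ k ^ j := by rw [ih, conj_pow]
        _ = C.z ^ k ^ (j + 1) := by rw [← hk, ← pow_mul, pow_succ']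
  have hy11 : y ^ 11 = 1 := by
    have h11 : C.x ^ 11 = 1 := by rw [← C.hx]; exact pow_orderOf_eq_one _
    calc y ^ 11 = (g⁻¹ * C.x * g⁻¹⁻¹) ^ 11 := by rw [inv_inv]
      _ = g⁻¹ * C.x ^ 11 * g⁻¹⁻¹ := conj_pow
      _ = 1 := by rw [h11]; group
  have h1 := hit 11
  rw [hy11] at h1
  simp only [one_mul, inv_one, mul_one] at h1
  have hk1 : ((k : ℕ) : ZMod 11) = ((1 : ℕ) : ZMod 11) := by
    have h2 : C.p (0, ((1 : ℕ) : ZMod 11)) = C.p (0, ((k ^ 11 : ℕ) : ZMod 11)) := by
      have a := C.p_cast 0 1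
      have b := C.p_cast 0 (k ^ 11)
      rw [Nat.cast_zero] at a b
      rw [a, b, pow_zero, one_mul, one_mul, pow_one]
      exact h1
    have h3 := congrArg Prod.snd (C.p_inj h2)
    simp only [Nat.cast_pow, ZMod.pow_card] at h3
    exact h3.symm
  have hzk : C.z ^ k = C.z := by
    rw [← pow_val_cast C.hz, hk1, pow_val_cast C.hz, pow_one]
  rw [hzk] at hk
  have hcomm : (g * C.z * g⁻¹) * C.x = C.x * (g * C.z * g⁻¹) := by
    have h2 : y * C.z = C.z * y := mul_inv_eq_iff_eq_mul.mp hk.symm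
    calc g * C.z * g⁻¹ * C.x = g * (C.z * y) * g⁻¹ := by rw [hy]; group
      _ = g * (y * C.z) * g⁻¹ := by rw [h2]
      _ = _ := by rw [hy]; group
  have hmem := C.conj_z_of_commute h hcomm
  have hle : (Subgroup.zpowers C.z).map (MulAut.conj g).toMonoidHom ≤ Subgroup.zpowers C.z := by
    rw [MonoidHom.map_zpowers, Subgroup.zpowers_le]
    exact hmem
  have heq : (Subgroup.zpowers C.z).map (MulAut.conj g).toMonoidHom = Subgroup.zpowers C.z := by
    apply Subgroup.eq_of_le_of_card_ge hle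
    rw [Subgroup.card_map_of_injective (MulAut.conj g).injective]
  refine Subgroup.mem_normalizer_iff.mpr fun w => ⟨fun hw => ?_, fun hw => ?_⟩
  · rw [← heq]; exact ⟨w, hw, rfl⟩
  · rw [← heq] at hw
    obtain ⟨e, he, hee⟩ := hw
    exact mul_left_cancel (mul_right_cancel hee) ▸ he

theorem case_eleven (h : Nat.card C.S = 11)
    (IH : ∀ (Q : Type u) [Group Q], Nat.card Q < Nat.card W → ∀ D : Cfg Q,
      ∃ θ : Q →* Multiplicative (ZMod 11), θ D.x ≠ 1) :
    ∃ θ : W →* Multiplicative (ZMod 11), θ C.x ≠ 1 := by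
  have := C.fin
  have : Fact (Nat.Prime 11) := ⟨by norm_num⟩
  have hNM : C.N ≤ C.M := by
    intro n hn
    refine Subgroup.mem_normalizer_iff.mpr fun w => ?_
    constructor
    · intro hw
      obtain ⟨k, rfl⟩ := Subgroup.mem_zpowers_iff.mp hw
      rw [((show Commute n C.z from C.z_central h hn).zpow_right k).eq, mul_inv_cancel_right]
      exact Subgroup.zpow_mem_zpowers _ _
    · intro hw
      obtain ⟨k, hk⟩ := Subgroup.mem_zpowers_iff.mp hw
      have : w = C.z ^ k := by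
        calc w = n⁻¹ * (n * w * n⁻¹) * n := by group
          _ = n⁻¹ * (C.z ^ k * n) := by rw [← hk]; group
          _ = n⁻¹ * (n * C.z ^ k) := by
            rw [((show Commute n C.z from C.z_central h hn).zpow_right k).eq]
          _ = C.z ^ k := by group
      rw [this]; exact Subgroup.zpow_mem_zpowers _ _
  have hxE : C.x ∈ C.E := C.mem_E.mpr rfl
  have hxM : C.x ∈ C.M := hNM (C.E_le_N hxE)
  -- the automorphism restricted to `M`
  have hαM : ∀ g ∈ C.M, C.α g ∈ C.M := by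
    intro g hg
    have hαp : ∀ w ∈ Subgroup.zpowers C.z, C.α w ∈ Subgroup.zpowers C.z := by
      intro w hw
      obtain ⟨k, rfl⟩ := Subgroup.mem_zpowers_iff.mp hw
      rw [map_zpow, C.hαz]
      exact Subgroup.zpow_mem _ (pow_mem (Subgroup.mem_zpowers _) _) _
    refine Subgroup.mem_normalizer_iff.mpr fun w => ?_
    have hsym : ∀ v, C.α v ∈ Subgroup.zpowers C.z → v ∈ Subgroup.zpowers C.z := fun v hv => by
      have := hαp _ (hαp _ (hαp _ (hαp _ hv)))
      rwa [C.hα] at this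
    obtain ⟨v, rfl⟩ := C.α.surjective w
    rw [← map_inv, ← map_mul, ← map_mul]
    constructor
    · intro hv; exact hαp _ ((Subgroup.mem_normalizer_iff.mp hg v).mp (hsym _ hv))
    · intro hv; exact hαp _ ((Subgroup.mem_normalizer_iff.mp hg v).mpr (hsym _ hv))
  have hαM' : ∀ g, C.α g ∈ C.M → g ∈ C.M := fun g hg => by
    have := hαM _ (hαM _ (hαM _ (hαM _ hg)))
    rwa [C.hα] at this
  let αM : MulAut ↥C.M :=
    { toFun := fun g => ⟨C.α g.1, hαM _ g.2⟩
      invFun := fun g => ⟨C.α.symm g.1, hαM' _ (by simp)⟩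
      left_inv := fun g => Subtype.ext (by simp)
      right_inv := fun g => Subtype.ext (by simp)
      map_mul' := fun a b => Subtype.ext (map_mul C.α a.1 b.1) }
  let Z : Subgroup ↥C.M := (Subgroup.zpowers C.z).subgroupOf C.M
  have : Z.Normal := Subgroup.normal_in_normalizer
  have hZmap : Z.map αM.toMonoidHom = Z := by
    apply Subgroup.eq_of_le_of_card_ge
    · rintro _ ⟨g, hg, rfl⟩
      show C.α g.1 ∈ Subgroup.zpowers C.z
      obtain ⟨k, hk⟩ := Subgroup.mem_zpowers_iff.mp (show g.1 ∈ Subgroup.zpowers C.z from hg)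
      rw [← hk, map_zpow, C.hαz]
      exact Subgroup.zpow_mem _ (pow_mem (Subgroup.mem_zpowers _) _) _
    · rw [Subgroup.card_map_of_injective αM.injective]
  let αQ : MulAut (↥C.M ⧸ Z) := QuotientGroup.congr Z Z αM hZmap
  have hαQ : ∀ g : ↥C.M, αQ (g : ↥C.M ⧸ Z) = ((αM g : ↥C.M) : ↥C.M ⧸ Z) := fun g => rfl
  let π := QuotientGroup.mk' Z
  have hπ : ∀ a b : ↥C.M, π a = π b ↔ (a : W)⁻¹ * b ∈ Subgroup.zpowers C.z := by
    intro a b
    rw [QuotientGroup.mk'_apply, QuotientGroup.mk'_apply, QuotientGroup.eq]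
    rfl
  -- an element of `N` outside `E`
  obtain ⟨r, hrN, hrE⟩ : ∃ r ∈ C.N, r ∉ C.E := by
    by_contra hno
    push Not at hno
    have := Subgroup.card_le_of_le hno
    rw [C.card_N, h, C.card_E] at this
    omega
  have hzr : Commute r C.z := C.z_central h hrN
  obtain ⟨s, hsS, hs⟩ := C.exists_S hrN
  have hconj : ∀ b : ZMod 11 × ZMod 11,
      r * C.p b * r⁻¹ = C.p (b.1 • s + (0, b.2)) := by
    intro b
    rw [C.p_add, C.p_smul, ← hs, conj_pow]
    have e : C.p (0, b.2) = C.z ^ b.2.val := by simp [p, pw]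
    rw [e]
    calc r * C.p b * r⁻¹ = r * (C.x ^ b.1.val * C.z ^ b.2.val) * r⁻¹ := rfl
      _ = r * C.x ^ b.1.val * r⁻¹ * (r * C.z ^ b.2.val * r⁻¹) := by group
      _ = _ := by rw [(hzr.pow_right b.2.val).eq, mul_inv_cancel_right]
  have hcard : (C.E.subgroupOf C.N).index = 11 := by
    have h1 := Subgroup.card_eq_card_quotient_mul_card_subgroup (C.E.subgroupOf C.N)
    rw [C.card_N, h, Nat.card_congr (Subgroup.subgroupOfEquivOfLe C.E_le_N).toEquiv, C.card_E] at h1
    rw [Subgroup.index_eq_card]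
    omega
  have : (C.E.subgroupOf C.N).Normal := Subgroup.normal_in_normalizer
  have hgen : ∀ n ∈ C.N, ∃ (b : ZMod 11 × ZMod 11) (j : ℕ), n = C.p b * r ^ j := by
    intro n hn
    have hr1 : ((⟨r, hrN⟩ : ↥C.N) : ↥C.N ⧸ C.E.subgroupOf C.N) ≠ 1 := by
      rw [Ne, QuotientGroup.eq_one_iff]
      exact hrE
    have hq : ((⟨n, hn⟩ : ↥C.N) : ↥C.N ⧸ C.E.subgroupOf C.N) ∈
        Submonoid.powers ((⟨r, hrN⟩ : ↥C.N) : ↥C.N ⧸ C.E.subgroupOf C.N) :=
      mem_powers_of_prime_card (p := 11) hcard hr1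
    obtain ⟨j, hj⟩ := hq
    have hj' : ((⟨n, hn⟩ * (⟨r, hrN⟩ ^ j)⁻¹ : ↥C.N) : ↥C.N ⧸ C.E.subgroupOf C.N) = 1 := by
      rw [QuotientGroup.mk_mul, QuotientGroup.mk_inv, QuotientGroup.mk_pow, mul_inv_eq_one]
      exact hj.symm
    rw [QuotientGroup.eq_one_iff] at hj'
    obtain ⟨b, hb⟩ := C.exists_p (show n * (r ^ j)⁻¹ ∈ C.E from hj')
    exact ⟨b, j, by rw [← hb]; group⟩
  have hr11 : r ^ 11 ∈ C.E := by
    have := pow_card_eq_one' (x := ((⟨r, hrN⟩ : ↥C.N) : ↥C.N ⧸ C.E.subgroupOf C.N))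
    rw [← Subgroup.index_eq_card, hcard, ← QuotientGroup.mk_pow, QuotientGroup.eq_one_iff] at this
    exact this
  have hsit : ∀ j : ℕ, ∃ w : ZMod 11, r ^ j * C.x * (r ^ j)⁻¹ = C.p (s.1 ^ j, w) ∧
      (s.1 = 1 → w = j • s.2) := by
    intro j
    induction j with
    | zero => exact ⟨0, by simp [p_x], by simp⟩
    | succ j ih =>
      obtain ⟨w, hw, hw'⟩ := ih
      refine ⟨s.1 ^ j * s.2 + w, ?_, fun hs1 => ?_⟩
      · calc r ^ (j + 1) * C.x * (r ^ (j + 1))⁻¹ = r * (r ^ j * C.x * (r ^ j)⁻¹) * r⁻¹ := by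
              rw [pow_succ']; group
          _ = C.p (s.1 ^ (j + 1), s.1 ^ j * s.2 + w) := by
              rw [hw, hconj]
              congr 1
              exact Prod.ext (by simp [pow_succ]) (by simp)
      · rw [hw' hs1, hs1, one_pow, one_mul, succ_nsmul, add_comm]
  have hs1 : s.1 = 1 := by
    obtain ⟨w, hw, -⟩ := hsit 11
    rw [C.mem_E.mp hr11, mul_inv_cancel_right, ← C.p_x] at hw
    have := congrArg Prod.fst (C.p_inj hw)
    simpa [ZMod.pow_card] using this.symm
  have hs2 : s.2 ≠ 0 := by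
    intro h0
    apply hrE
    rw [C.mem_E]
    have : r * C.x * r⁻¹ = C.x := by rw [hs, ← C.p_x]; congr 1; exact Prod.ext hs1 h0
    exact mul_inv_eq_iff_eq_mul.mp this
  have hxr : ∀ j : ℕ, r ^ j * C.x * (r ^ j)⁻¹ = C.p (1, (j : ZMod 11) * s.2) := by
    intro j
    obtain ⟨w, hw, hw'⟩ := hsit j
    rw [hw, hw' hs1, hs1, one_pow, nsmul_eq_mul]
  have hr11z : r ^ 11 ∈ Subgroup.zpowers C.z := by
    obtain ⟨b, hb⟩ := C.exists_p hr11
    have hb1 : b.1 = 0 := by
      by_contra hne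
      have hcom : r * C.p b * r⁻¹ = C.p b := by rw [← hb]; group
      rw [hconj] at hcom
      have := congrArg Prod.snd (C.p_inj hcom)
      simp [hne, hs2] at this
    rw [hb, p, pw, hb1, ZMod.val_zero, pow_zero, one_mul]
    exact pow_mem (Subgroup.mem_zpowers _) _
  obtain ⟨b, j, hαr⟩ := hgen _ (C.α_mem_N hrN)
  have hj : (j : ZMod 11) = (C.m : ZMod 11) := by
    have h1 : C.α r * C.x * (C.α r)⁻¹ = C.p (1, (C.m : ZMod 11) * s.2) := by
      have := congrArg C.α hs
      rw [map_mul, map_mul, map_inv, C.hαx, C.α_p, hs1] at this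
      exact this
    have h2 : C.α r * C.x * (C.α r)⁻¹ = C.p (1, (j : ZMod 11) * s.2) := by
      calc C.α r * C.x * (C.α r)⁻¹ = C.p b * (r ^ j * C.x * (r ^ j)⁻¹) * (C.p b)⁻¹ := by
            rw [hαr]; group
        _ = _ := by rw [hxr, C.p_comm, mul_inv_cancel_right]
    have := congrArg Prod.snd (C.p_inj (h2.symm.trans h1))
    exact mul_right_cancel₀ hs2 this
  -- the quotient configuration
  let X : ↥C.M := ⟨C.x, hxM⟩
  let R : ↥C.M := ⟨r, hNM hrN⟩
  have hm1 : (C.m : ZMod 11) - 1 ≠ 0 := by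
    intro h0
    apply C.hm
    have h1 : ((C.m : ℕ) : ZMod 11) = ((1 : ℕ) : ZMod 11) := by
      rw [Nat.cast_one]; exact sub_eq_zero.mp h0
    simpa using (ZMod.natCast_eq_natCast_iff' _ _ _).mp h1
  let t : ℕ := (b.1 / ((C.m : ZMod 11) - 1)).val
  have hX11 : π X ^ 11 = 1 := by
    rw [← map_pow]
    have e : X ^ 11 = 1 := Subtype.ext (by
      show C.x ^ 11 = 1
      rw [← C.hx]; exact pow_orderOf_eq_one _)
    rw [e, map_one]
  have hR11 : π R ^ 11 = 1 := by
    rw [← map_pow, QuotientGroup.mk'_apply, QuotientGroup.eq_one_iff]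
    exact hr11z
  have hXR : Commute (π X) (π R) := by
    show π X * π R = π R * π X
    rw [← map_mul, ← map_mul, hπ]
    show (C.x * r)⁻¹ * (r * C.x) ∈ Subgroup.zpowers C.z
    have : (C.x * r)⁻¹ * (r * C.x) = r⁻¹ * (C.x⁻¹ * (r * C.x * r⁻¹)) * r := by group
    rw [this, hs]
    have e : C.x⁻¹ * C.p s = C.z ^ s.2.val := by
      rw [inv_mul_eq_iff_eq_mul]
      show C.x ^ s.1.val * C.z ^ s.2.val = _
      rw [hs1, ZMod.val_one, pow_one]
    rw [e, mul_assoc, ← (hzr.pow_right _).eq, inv_mul_cancel_left]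
    exact pow_mem (Subgroup.mem_zpowers _) _
  have hXne : π X ≠ 1 := by
    intro h0
    rw [QuotientGroup.mk'_apply, QuotientGroup.eq_one_iff] at h0
    obtain ⟨k, hk⟩ := (Submonoid.mem_powers_iff _ _).mp
      ((isOfFinOrder_of_finite C.z).mem_powers_iff_mem_zpowers.mpr (show C.x ∈ Subgroup.zpowers C.z from h0))
    have h1 : C.p (1, 0) = C.p (0, (k : ZMod 11)) := by
      have hc := C.p_cast 0 k
      rw [Nat.cast_zero] at hc
      rw [C.p_x, hc, pow_zero, one_mul, hk]
    exact one_ne_zero (congrArg Prod.fst (C.p_inj h1))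
  have hq : ∀ n : ↥C.M, (n : W) ∈ C.N →
      ∃ i j : ℕ, π n = π X ^ i * (π R * π X ^ t) ^ j := by
    intro n hn
    obtain ⟨c, k, hk⟩ := hgen _ hn
    refine ⟨c.1.val + 10 * (t * k), k, ?_⟩
    have e1 : π n = π X ^ c.1.val * π R ^ k := by
      rw [← map_pow, ← map_pow, ← map_mul, hπ]
      show (n : W)⁻¹ * (C.x ^ c.1.val * r ^ k) ∈ Subgroup.zpowers C.z
      rw [hk]
      have e : (C.p c * r ^ k)⁻¹ * (C.x ^ c.1.val * r ^ k) =
          (r ^ k)⁻¹ * ((C.z ^ c.2.val)⁻¹ * r ^ k) := by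
        simp only [p, pw]; group
      rw [e, ((hzr.pow_pow k c.2.val).inv_right).symm.eq, inv_mul_cancel_left]
      exact inv_mem (pow_mem (Subgroup.mem_zpowers _) _)
    rw [e1, (hXR.symm.pow_right t).mul_pow, ← mul_assoc, ← pow_mul,
      mul_assoc, (hXR.symm.pow_pow k (t * k)).eq, ← mul_assoc, ← pow_add]
    congr 1
    rw [show c.1.val + 10 * (t * k) + t * k = c.1.val + 11 * (t * k) by ring, pow_add, pow_mul,
      hX11, one_pow, mul_one]
  have hconjX : ∀ g : ↥C.M, π g * π X * (π g)⁻¹ ∈ Subgroup.zpowers (π X) → (g : W) ∈ C.N := by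
    intro g hg
    obtain ⟨k, hk⟩ := Subgroup.mem_zpowers_iff.mp hg
    rw [← map_inv, ← map_mul, ← map_mul, ← map_zpow, hπ] at hk
    have hE : (g : W) * C.x * (g : W)⁻¹ ∈ C.E := by
      have hzE : Subgroup.zpowers C.z ≤ C.E := by
        rw [Subgroup.zpowers_le, C.mem_E]; exact C.hcomm.symm
      have := C.E.mul_mem (C.E.zpow_mem hxE k) (hzE hk)
      simpa [X, mul_assoc] using this
    have := C.mem_N_of_conj (g := (g : W)⁻¹) (by simpa using hE)
    exact inv_inv (g : W) ▸ (inv_mem this : (g : W)⁻¹⁻¹ ∈ C.N)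
  have hlt : Nat.card (↥C.M ⧸ Z) < Nat.card W := by
    have h1 := Subgroup.card_eq_card_quotient_mul_card_subgroup Z
    have h2 : Nat.card Z = 11 := by
      rw [Nat.card_congr (Subgroup.subgroupOfEquivOfLe (show Subgroup.zpowers C.z ≤ C.M from
        Subgroup.le_normalizer)).toEquiv, Nat.card_zpowers, C.hz]
    have h3 : Nat.card ↥C.M ≤ Nat.card W := Subgroup.card_le_card_group _
    have h4 : 0 < Nat.card (↥C.M ⧸ Z) := Nat.card_pos
    rw [h2] at h1
    omega
  have hord : ∀ q : ↥C.M ⧸ Z, q ^ 11 = 1 → q ≠ 1 → orderOf q = 11 :=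
    fun q h1 h2 => orderOf_eq_prime h1 h2
  have hRn : π R * π X ^ t ∉ Subgroup.zpowers (π X) := by
    intro hm
    have h1 : π R ∈ Subgroup.zpowers (π X) :=
      ((Subgroup.zpowers (π X)).mul_mem_cancel_right (pow_mem (Subgroup.mem_zpowers _) t)).mp hm
    obtain ⟨k, hk⟩ := Subgroup.mem_zpowers_iff.mp h1
    rw [← map_zpow, hπ] at hk
    apply hrE
    have hzE : Subgroup.zpowers C.z ≤ C.E := by
      rw [Subgroup.zpowers_le, C.mem_E]; exact C.hcomm.symm
    have := C.E.mul_mem (C.E.zpow_mem hxE k) (hzE hk)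
    simpa [X, R] using this
  let D : Cfg (↥C.M ⧸ Z) :=
    { fin := inferInstance
      odd := by
        refine C.odd.of_dvd_nat ?_
        exact (Subgroup.card_quotient_dvd_card _).trans (Subgroup.card_subgroup_dvd_card _)
      α := αQ
      x := π X
      z := π R * π X ^ t
      hα := by
        intro q
        induction q using QuotientGroup.induction_on with
        | _ g =>
          simp only [hαQ]
          congr 1
          exact Subtype.ext (C.hα g.1)
      hx := hord _ hX11 hXne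
      hz := hord _ (by rw [(hXR.symm.pow_right t).mul_pow, hR11, ← pow_mul, mul_comm t, pow_mul,
        hX11, one_pow, one_mul]) (fun h0 => hRn (h0 ▸ one_mem _))
      hzx := hRn
      hcomm := (hXR.mul_right ((Commute.refl _).pow_right t)).eq
      hαx := by
        show αQ (π X) = π X
        rw [QuotientGroup.mk'_apply, hαQ]
        congr 1
        exact Subtype.ext C.hαx
      m := C.m
      hαz := by
        have eX : αQ (π X) = π X := by
          rw [QuotientGroup.mk'_apply, hαQ]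
          congr 1
          exact Subtype.ext C.hαx
        have eR : αQ (π R) = π X ^ b.1.val * π R ^ j := by
          show π (αM R) = π X ^ b.1.val * π R ^ j
          rw [← map_pow, ← map_pow, ← map_mul, hπ]
          show (C.α r)⁻¹ * (C.x ^ b.1.val * r ^ j) ∈ Subgroup.zpowers C.z
          rw [hαr]
          have e : (C.p b * r ^ j)⁻¹ * (C.x ^ b.1.val * r ^ j) =
              (r ^ j)⁻¹ * ((C.z ^ b.2.val)⁻¹ * r ^ j) := by
            simp only [p, pw]; group
          rw [e, ((hzr.pow_pow j b.2.val).inv_right).symm.eq, inv_mul_cancel_left]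
          exact inv_mem (pow_mem (Subgroup.mem_zpowers _) _)
        have hmod : ∀ (q : ↥C.M ⧸ Z), q ^ 11 = 1 → ∀ a c : ℕ, (a : ZMod 11) = c →
            q ^ a = q ^ c := by
          intro q hq a c hac
          have := (ZMod.natCast_eq_natCast_iff' _ _ _).mp hac
          rw [pow_eq_pow_mod a hq, pow_eq_pow_mod c hq, this]
        rw [map_mul, map_pow, eR, eX, (hXR.symm.pow_right t).mul_pow, ← pow_mul,
          (hXR.symm.pow_pow C.m (t * C.m)).eq, hmod (π R) hR11 j C.m hj,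
          mul_assoc, ← ((hXR.pow_pow t C.m)).eq, ← mul_assoc, ← pow_add]
        congr 1
        apply hmod _ hX11
        simp only [t, Nat.cast_add, Nat.cast_mul, ZMod.natCast_zmod_val]
        field_simp
        ring
      hm := C.hm
      hC := by
        intro q hq'
        induction q using QuotientGroup.induction_on with
        | _ g =>
          apply hq
          apply hconjX g
          show (g : ↥C.M ⧸ Z) * π X * (g : ↥C.M ⧸ Z)⁻¹ ∈ _
          rw [hq', mul_inv_cancel_right]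
          exact Subgroup.mem_zpowers _
      hN := by
        intro q hq'
        induction q using QuotientGroup.induction_on with
        | _ g =>
          obtain ⟨i, k, hik⟩ := hq g (hconjX g hq')
          show π g * π X = π X * π g
          rw [hik]
          exact (((Commute.refl (π X)).pow_left i).mul_left
            ((hXR.symm.mul_left ((Commute.refl _).pow_left t)).pow_left k)).eq }
  obtain ⟨θ, hθ⟩ := IH (↥C.M ⧸ Z) hlt D
  refine ⟨MonoidHom.transfer (θ.comp π), ?_⟩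
  rw [transfer_eq_of_unique_fixed C.M (θ.comp π) (p := 11) (by norm_num) C.x
    (C.hx ▸ pow_orderOf_eq_one C.x) hxM (fun g hg => C.mem_M_of_conj_x h hg)]
  exact hθ

end Cfg

theorem main : ∀ (n : ℕ) (W : Type u) [Group W], Nat.card W ≤ n → ∀ C : Cfg W,
    ∃ θ : W →* Multiplicative (ZMod 11), θ C.x ≠ 1 := by
  intro n
  induction n using Nat.strong_induction_on with
  | _ n ih =>
    intro W _ hn C
    rcases C.card_S with h | h
    · exact C.case_one h
    · exact C.case_eleven h fun Q _ hQ D =>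
        ih (Nat.card Q) (by omega) Q le_rfl D

end Focal

theorem exists_hom_of_small_centralizer :
    ∀ (W : Type u) [Group W] [Finite W], Odd (Nat.card W) → ∀ (α : MulAut W) (x z : W),
      (∀ g, α (α (α (α (α g)))) = g) → orderOf x = 11 → orderOf z = 11 →
      z ∉ Subgroup.zpowers x → x * z = z * x → α x = x →
      (∃ m : ℕ, α z = z ^ m ∧ m % 11 ≠ 1) →
      (∀ g, g * x = x * g → ∃ i j : ℕ, g = x ^ i * z ^ j) →
      (∀ g : W, g * x * g⁻¹ ∈ Subgroup.zpowers x → g * x = x * g) →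
      ∃ θ : W →* Multiplicative (ZMod 11), θ x ≠ 1 := by
  intro W _ _ hodd α x z hα hx hz hzx hxz hαx hm hC hN
  obtain ⟨m, hαz, hm⟩ := hm
  exact Focal.main (Nat.card W) W le_rfl
    { fin := inferInstance, odd := hodd, α := α, x := x, z := z, hα := hα, hx := hx, hz := hz,
      hzx := hzx, hcomm := hxz, hαx := hαx, m := m, hαz := hαz, hm := hm, hC := hC, hN := hN }

end H63.Eleven
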