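import Cfsg.Agent.H63.Eleven.CountOdd
import Cfsg.Agent.H63.Eleven.CountEven
import Cfsg.Agent.H63.Eleven.Focal
import Cfsg.Agent.H66.Eleven.Centralised
import Cfsg.Agent.H53.Eleven.Sigma
import Cfsg.Agent.H21.Eleven.Second
-- owner: helper21 (structure), helper66 (transfer), helper53 (sigma), helper25 (parity)

/-!
No element of a two-point centraliser stabilises a second line.
-/

set_option autoImplicit false

namespace H63.Eleven.ACore

universe u v

variable {G : Type u} {Ω : Type v} [Group G] [Finite G] [MulAction G Ω] (A : ACore G Ω)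

/-- Some non-trivial element of a two-point centraliser stabilises a second line. -/
def Second : Prop := ∃ (a b c : Ω) (x : G), a ≠ b ∧ a ≠ c ∧ x ∈ A.W a ∧ x • b = b ∧ x ≠ 1 ∧
  x • c ∈ A.line a c ∧ c ∉ A.line a b

/-- An element of a two-point centraliser stabilising a second line has order eleven. -/
theorem eleven_dvd_v (hS : A.Second) : 11 ∣ A.v := by
  obtain ⟨a, b, c, x, hab, hac, hx, hxb, hx1, hxc, hcl⟩ := hS
  obtain ⟨p, hp, hpc⟩ := A.line_stab a c x hac hx hxc
  have hp11 : p ^ 11 = 1 := by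
    have h := pow_card_eq_one' (x := (⟨p, hp⟩ : A.P a))
    rw [A.card_P a] at h
    exact congrArg Subtype.val h
  have hcomm : Commute x p := (A.W_iff a x).1 hx p hp
  have hxb' : ∀ n : ℕ, (x ^ n) • b = b := fun n => by
    induction n with
    | zero => rw [pow_zero, one_smul]
    | succ n ih => rw [pow_succ, mul_smul, hxb, ih]
  have hc11 : (x ^ 11) • c = c := by
    have h : ∀ n : ℕ, ((x * p) ^ n) • c = c := fun n => by
      induction n with
      | zero => rw [pow_zero, one_smul]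
      | succ n ih => rw [pow_succ, mul_smul, hpc, ih]
    have := h 11
    rwa [hcomm.mul_pow, hp11, mul_one] at this
  have h1 : x ^ 11 = 1 := by
    by_contra h
    exact hcl ((A.V_fix a b (x ^ 11) hab ((A.W a).pow_mem hx 11) (hxb' 11) h c).1 hc11)
  haveI : Fact (Nat.Prime 11) := ⟨by norm_num⟩
  have ho : orderOf x = 11 := orderOf_eq_prime h1 hx1
  rw [← A.card_V a b hab, ← ho]
  exact Subgroup.orderOf_dvd_natCard _
    (show x ∈ A.W a ⊓ MulAction.stabilizer G b from ⟨hx, hxb⟩)

/-- A second stabilised line excludes involutions from two-point centralisers. -/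
theorem odd_of_second (hS : A.Second) : Odd A.v := by
  rcases Nat.even_or_odd A.v with hv | hv
  · exact absurd ((A.eleven_dvd_v hS).trans (A.exists_good_of_even hv).1) (by norm_num)
  · exact hv

/-- Then an element `x` of order eleven in a two-point centraliser has centraliser and normaliser
there of order eleven, and `11 ∣ u`. -/
theorem eleven_struct (hS : A.Second) {a b : Ω} (hab : a ≠ b) :
    11 ∣ A.u ∧ ∃ q : ℕ, A.v = 11 * q ∧ ¬ 11 ∣ q ∧ (q = 1 ∨ q % 11 = 1) ∧
      ∀ x : G, x ∈ A.W a → x • b = b → orderOf x = 11 →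
        (∀ g : G, g ∈ A.W a → g • b = b → g * x * g⁻¹ ∈ Subgroup.zpowers x →
          g ∈ Subgroup.zpowers x) := by
  obtain ⟨a₀, b₀, c, x, h₀, hac, hx, hxb, hx1, hxc, hcl⟩ := id hS
  obtain ⟨g, rfl, rfl⟩ := A.twoTrans a₀ b₀ a b h₀ hab
  exact H21.Eleven.struct_of_second A (A.odd_of_second hS) hab (c := g • c) (x₀ := g * x * g⁻¹)
    (fun e => hac (MulAction.injective g e)) (A.W_conj g x a₀ hx)
    (by rw [mul_smul, mul_smul, inv_smul_smul, hxb])
    (fun e => hx1 (conj_eq_one_iff.1 e))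
    (by rw [mul_smul, mul_smul, inv_smul_smul, A.line_smul g a₀ c hac]; exact ⟨_, hxc, rfl⟩)
    (by rw [A.line_smul g a₀ b₀ h₀]; rintro ⟨d, hd, he⟩; exact hcl (MulAction.injective g he ▸ hd))

/-- An inverting involution centralising an element of order eleven, or none at all, is impossible:
transfer. -/
theorem false_of_centralised (hS : A.Second) (hodd : Odd A.v) (hu : Odd A.u) {a b : Ω} (hab : a ≠ b)
    (h : ∀ t : G, t * t = 1 → t • a = a → t • b = b → t ∉ A.W a →
      ∃ x : G, x ∈ A.W a ∧ x • b = b ∧ orderOf x = 11 ∧ t * x = x * t) : False := by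
  obtain ⟨h11u, q, hq, -, -, hself⟩ := A.eleven_struct hS hab
  have h11v : 11 ∣ A.v := hq ▸ dvd_mul_right 11 q
  obtain ⟨F⟩ := H66.Eleven.frame_exists A hab
  by_cases hinv : ∃ s : G, s * s = 1 ∧ s ≠ 1 ∧ s • a = a ∧ s • b = b
  · obtain ⟨t, ht, ht1, hta, htb⟩ := hinv
    obtain ⟨x, hx, hxb, hord, htx⟩ :=
      h t ht hta htb (H66.Eleven.not_mem_W_of_inv A hodd hu ht ht1 a)
    exact H66.Eleven.false_of_commuting A hodd hu h11u h11v
      ⟨hab, x, hx, hxb, hord, hself x hx hxb hord⟩ F fun _ _ _ _ _ => ⟨t, ht, ht1, hta, htb, htx⟩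
  · haveI : Fact (Nat.Prime 11) := ⟨by norm_num⟩
    have h11 : 11 ∣ Nat.card ↥(A.W a ⊓ MulAction.stabilizer G b : Subgroup G) := by
      rw [A.card_V a b hab]; exact h11v
    obtain ⟨x', hx'⟩ := exists_prime_orderOf_dvd_card' 11 h11
    rw [← Subgroup.orderOf_coe] at hx'
    exact H66.Eleven.false_of_commuting A hodd hu h11u h11v
      ⟨hab, x', x'.2.1, x'.2.2, hx', hself x' x'.2.1 x'.2.2 hx'⟩ F
      fun s h1 h2 h3 h4 => absurd ⟨s, h1, h2, h3, h4⟩ hinv

/-- An inverting involution centralising no element of order eleven is impossible: counting. -/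
theorem false_of_inverted (hS : A.Second) (hodd : Odd A.v) (hu : Odd A.u) {a b : Ω} (hab : a ≠ b)
    {t : G} (htt : t * t = 1) (hta : t • a = a) (htb : t • b = b) (htW : t ∉ A.W a)
    (h : ∀ x : G, x ∈ A.W a → x • b = b → orderOf x = 11 → t * x ≠ x * t) : False := by
  obtain ⟨h11u, q, hq, hq11, hq1, hN⟩ := A.eleven_struct hS hab
  exact H53.Eleven.false_of_inverted A hodd hu h11u hq hq11 hq1 hab hN htt hta htb htW h

theorem eleven_dvd_of_second (hS : A.Second) : 11 ∣ A.v := by
  obtain ⟨a, b, -, -, hab, -⟩ := id hS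
  obtain ⟨-, q, hq, -⟩ := A.eleven_struct hS hab
  exact hq ▸ dvd_mul_right 11 q

theorem not_second : ¬ A.Second := by
  intro h11
  have hv := A.odd_of_second h11
  have hne : Nonempty Ω := (Nat.card_pos_iff.1 (by rw [A.card_points]; omega)).1
  obtain ⟨a⟩ := hne
  obtain ⟨b, hb⟩ : ∃ b : Ω, b ≠ a := by
    by_contra hall
    push Not at hall
    haveI : Subsingleton Ω := ⟨fun x y => (hall x).trans (hall y).symm⟩
    have h1 : Nat.card Ω ≤ 1 := Finite.card_le_one_iff_subsingleton.2 inferInstance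
    rw [A.card_points] at h1
    have := A.one_lt_u
    omega
  by_cases ht : ∃ t : G, t * t = 1 ∧ t • a = a ∧ t • b = b ∧ t ∉ A.W a ∧
      ∀ x : G, x ∈ A.W a → x • b = b → orderOf x = 11 → t * x ≠ x * t
  · obtain ⟨t, htt, hta, htb, htW, h⟩ := ht
    exact A.false_of_inverted h11 hv (A.odd_u hv) hb.symm htt hta htb htW h
  · push Not at ht
    exact A.false_of_centralised h11 hv (A.odd_u hv) hb.symm fun t h1 h2 h3 h4 => ht t h1 h2 h3 h4

theorem five_v_dvd : 5 * A.v ∣ A.u - 1 :=
  A.five_v_dvd' fun a b c x h1 h2 h3 h4 h5 h6 => by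
    by_contra h7
    exact A.not_second ⟨a, b, c, x, h1, h2, h3, h4, h5, h6, h7⟩

end H63.Eleven.ACore
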