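import Mathlib
import Cfsg.Prelude.Def_Spor_J1

/-!
Groups generated by a class of subgroups of order 11 pairwise generating `L₂(11)` or `J₁` (S3403):
common definitions.
-/

set_option autoImplicit false

namespace H63.Eleven

universe u

/-- The model group `L₂(11)`. -/
abbrev L11 : Type := Matrix.ProjectiveSpecialLinearGroup (Fin 2) (ZMod 11)

instance : Fact (Nat.Prime 11) := ⟨by norm_num⟩

/-- A group is isomorphic to `L₂(11)`. -/
def IsL2 (K : Type*) [Group K] : Prop := Nonempty (K ≃* L11)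

variable {G : Type u} [Group G]

/-- The conjugate `g Q g⁻¹`. -/
abbrev cj (g : G) (Q : Subgroup G) : Subgroup G := Q.map (MulAut.conj g).toMonoidHom

/-- `x` inverts every element of `A`. -/
def Inverts (x : G) (A : Subgroup G) : Prop := ∀ a ∈ A, x * a * x⁻¹ = a⁻¹

/-- `x` centralises `A`. -/
def Centralises (x : G) (A : Subgroup G) : Prop := ∀ a ∈ A, x * a = a * x

/-- Conjugation by `x` acts on `A` as the `i`-th power map. -/
def ActsAs (x : G) (A : Subgroup G) (i : ℕ) : Prop := ∀ a ∈ A, x * a * x⁻¹ = a ^ i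

theorem mem_cj {g x : G} {Q : Subgroup G} : x ∈ cj g Q ↔ g⁻¹ * x * g ∈ Q := by
  constructor
  · rintro ⟨y, hy, rfl⟩
    simpa [mul_assoc] using hy
  · intro h
    exact ⟨g⁻¹ * x * g, h, by simp [mul_assoc]⟩

theorem cj_cj (g h : G) (Q : Subgroup G) : cj g (cj h Q) = cj (g * h) Q := by
  ext x
  simp [mem_cj, mul_assoc]

theorem cj_one (Q : Subgroup G) : cj (1 : G) Q = Q := by
  ext x
  simp [mem_cj]

/-- The hypothesis on a finite group: a non-normal subgroup of order 11, generating normally,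
pairs generating `L₂(11)` or `J₁`. -/
structure Sys (G : Type u) [Group G] where
  P : Subgroup G
  card_P : Nat.card P = 11
  moved : ∃ g : G, cj g P ≠ P
  gen : Subgroup.normalClosure (P : Set G) = ⊤
  pair : ∀ g h : G, cj g P ≠ cj h P →
    IsL2 ↥(cj g P ⊔ cj h P) ∨ Cfsg.Spor.IsoJ1 ↥(cj g P ⊔ cj h P)

namespace Sys

variable (S : Sys G)

/-- The conjugates of `P`. -/
def pts : Set (Subgroup G) := Set.range fun g => cj g S.P

/-- The points: conjugates of `P`, with `G` acting by conjugation. -/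
abbrev Pt : Type u := {Q : Subgroup G // Q ∈ S.pts}

instance : MulAction G S.Pt where
  smul g a := ⟨cj g a.1, by
    obtain ⟨h, hh⟩ := a.2
    exact ⟨g * h, by rw [← hh, cj_cj]⟩⟩
  one_smul a := Subtype.ext (cj_one a.1)
  mul_smul g h a := Subtype.ext (cj_cj g h a.1).symm

/-- All lines are of type `L₂(11)`. -/
def AllL2 : Prop := ∀ a b : S.Pt, a ≠ b → IsL2 ↥(a.1 ⊔ b.1)

/-- Every proper subgroup generated by at least two points is `L₂(11)` or `J₁`. -/
def SubHyp : Prop := ∀ T : Set (Subgroup G), T ⊆ S.pts → T.Nontrivial → sSup T ≠ ⊤ →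
  IsL2 ↥(sSup T : Subgroup G) ∨ Cfsg.Spor.IsoJ1 ↥(sSup T : Subgroup G)

end Sys

end H63.Eleven
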