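import Cfsg.Agent.H63.Eleven.ACore
import Cfsg.Agent.H63.Eleven.FactsL
import Cfsg.Agent.H21.Eleven.Assemble
-- owner: helper21

set_option autoImplicit false

namespace H63.Eleven

universe u

variable {G : Type u} [Group G] [Finite G]

/-- All lines `L₂(11)`: either `G` itself is, or the permutation data of case A holds. -/
theorem geometry_allL2 (S : Sys G) (hG : IsSimpleGroup G) (hsub : S.SubHyp) (h : S.AllL2) :
    IsL2 G ∨ Nonempty (ACore G S.Pt) := by
  obtain ⟨g, hg⟩ := S.moved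
  let a : S.Pt := ⟨S.P, 1, cj_one S.P⟩
  let b : S.Pt := ⟨cj g S.P, g, rfl⟩
  have hab : a ≠ b := fun e => hg (congrArg Subtype.val e).symm
  by_cases hout : ∃ c : S.Pt, c ∉ H21.Eleven.lineSet S a b
  · obtain ⟨c, hc⟩ := hout
    exact Or.inr (H21.Eleven.acore_of_outside S h hG hsub hab hc)
  refine Or.inl ?_
  push Not at hout
  have htop : a.1 ⊔ b.1 = ⊤ := by
    rw [eq_top_iff, ← S.gen, Subgroup.normalClosure, Subgroup.closure_le]
    intro x hx
    obtain ⟨p, hp, hpx⟩ := Group.mem_conjugatesOfSet_iff.mp hx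
    obtain ⟨k, rfl⟩ := isConj_iff.mp hpx
    exact hout (k • a) (mem_cj.mpr (by simpa [a, mul_assoc] using hp))
  obtain ⟨e⟩ := h a b hab
  exact ⟨(Subgroup.topEquiv.symm.trans (MulEquiv.subgroupCongr htop.symm)).trans e⟩

end H63.Eleven
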