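import Cfsg.Agent.H63.Eleven.Coprime
import Cfsg.Agent.H4.Eleven.Kernel
import Cfsg.Agent.H78.Eleven.Perfect
-- owner: helper63

set_option autoImplicit false

namespace H63.Eleven.ACore

universe u v

variable {G : Type u} {Ω : Type v} [Group G] [Finite G] [MulAction G Ω] (A : ACore G Ω)

/-- The regular normal subgroup of a point stabiliser. -/
theorem exists_kernel (a : Ω) : ∃ K : Subgroup G, K ≤ A.W a ∧ A.P a ≤ K ∧
    Nat.card K = 11 * A.u ∧
    (∀ g k : G, g • a = a → k ∈ K → g * k * g⁻¹ ∈ K) ∧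
    (∀ k ∈ K, k ≠ 1 → ∀ c : Ω, k • c = c → c = a) ∧ Group.IsNilpotent K :=
  H4.ElevenKernel.exists_kernel A a

/-- A perfect nontrivial two-point centraliser would be `SL₂(5)`. -/
theorem commutator_V_ne {a b : Ω} (hab : a ≠ b) (hv : 1 < A.v) (h120 : A.v ≠ 120) :
    commutator ↥(A.W a ⊓ MulAction.stabilizer G b : Subgroup G) ≠ ⊤ :=
  fun h => h120 (H78.Eleven.perfect_V A hab hv (A.exists_kernel a) h)

end H63.Eleven.ACore
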