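import Cfsg.Agent.H63.Eleven.Reduce
import Cfsg.Agent.H39.Dickson
-- owner: helper51

set_option autoImplicit false

namespace H63.Eleven

universe u v

theorem main {G : Type u} [Group G] [Finite G] {F : Type v} [Field F] [Fintype F]
    (hF : Fintype.card F = 11)
    (P : Subgroup G) (hP : Nat.card ↥P = 11) (hPn : ¬ P.Normal)
    (hgen : Subgroup.normalClosure (P : Set G) = ⊤)
    (hpair : ∀ g : G, P.map (MulAut.conj g).toMonoidHom ≠ P →
      Nonempty (↥(P ⊔ P.map (MulAut.conj g).toMonoidHom) ≃*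
        Matrix.ProjectiveSpecialLinearGroup (Fin 2) F) ∨
        Cfsg.Spor.IsoJ1 ↥(P ⊔ P.map (MulAut.conj g).toMonoidHom)) :
    Nonempty (G ≃* Matrix.ProjectiveSpecialLinearGroup (Fin 2) F) ∨ Cfsg.Spor.IsoJ1 G := by
  let σ : ZMod 11 ≃+* F :=
    FiniteField.ringEquivOfCardEq (by rw [hF, ZMod.card])
  have hiso : Nonempty (Matrix.ProjectiveSpecialLinearGroup (Fin 2) F ≃* L11) :=
    ⟨(H39.pslCongr σ).symm⟩
  obtain ⟨r⟩ := hiso
  have hbase : ∀ g : G, cj g P ≠ P →
      IsL2 ↥(P ⊔ cj g P) ∨ Cfsg.Spor.IsoJ1 ↥(P ⊔ cj g P) := fun g hg =>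
    (hpair g hg).imp_left fun ⟨e⟩ => ⟨e.trans r⟩
  obtain ⟨g₀, hg₀⟩ : ∃ g : G, cj g P ≠ P := by
    by_contra h
    push Not at h
    refine hPn ⟨fun x hx g => ?_⟩
    have : g * x * g⁻¹ ∈ cj g P := mem_cj.mpr (by simpa [mul_assoc] using hx)
    rwa [h g] at this
  let S : Sys G :=
    { P := P
      card_P := hP
      moved := ⟨g₀, hg₀⟩
      gen := hgen
      pair := by
        intro g h hne
        have hne' : cj (g⁻¹ * h) P ≠ P := by
          intro e
          refine hne ?_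
          conv_lhs => rw [← e, cj_cj, mul_inv_cancel_left]
        refine iso_concl (MulEquiv.trans ?_ ((P ⊔ cj (g⁻¹ * h) P).equivMapOfInjective
          (MulAut.conj g).toMonoidHom (MulAut.conj g).injective).symm) (hbase _ hne')
        refine MulEquiv.subgroupCongr ?_
        rw [Subgroup.map_sup, ← show cj g (cj (g⁻¹ * h) P) = cj h P by
          rw [cj_cj, mul_inv_cancel_left]] }
  exact (classify S).imp_left fun ⟨e⟩ => ⟨e.trans r.symm⟩

end H63.Eleven
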