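import Cfsg.Agent.H63.Eleven.GeoA
import Cfsg.Agent.H63.Eleven.AFalse
import Cfsg.Agent.H63.Eleven.CaseB
-- owner: helper51

set_option autoImplicit false

namespace H63.Eleven

universe u

theorem case_simple {G : Type u} [Group G] [Finite G] (S : Sys G) (hG : IsSimpleGroup G)
    (hsub : S.SubHyp) : IsL2 G ∨ Cfsg.Spor.IsoJ1 G := by
  by_cases h : S.AllL2
  · exact (geometry_allL2 S hG hsub h).imp_right fun ⟨A⟩ => (A.false).elim
  · right
    simp only [Sys.AllL2, not_forall] at h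
    obtain ⟨a, b, hab, hno⟩ := h
    obtain ⟨g, hg⟩ := a.2
    obtain ⟨k, hk⟩ := b.2
    refine case_j1 S hG hsub ⟨a, b, hab, ?_⟩
    have hne : cj g S.P ≠ cj k S.P := fun e => hab (Subtype.ext (by rw [← hg, ← hk]; exact e))
    rw [← hg, ← hk] at hno ⊢
    exact (S.pair g k hne).resolve_left hno

section lines

variable {G : Type u} [Group G] [Finite G]

theorem card_cj_eq (g : G) (Q : Subgroup G) : Nat.card ↥(cj g Q) = Nat.card ↥Q :=
  (Nat.card_congr (Q.equivMapOfInjective _ (MulAut.conj g).injective).toEquiv).symm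

theorem Sys.card_pt (S : Sys G) (a : S.Pt) : Nat.card ↥a.1 = 11 := by
  obtain ⟨g, hg⟩ := a.2
  rw [← hg, card_cj_eq, S.card_P]

theorem Sys.line (S : Sys G) {a b : S.Pt} (h : a ≠ b) :
    IsL2 ↥(a.1 ⊔ b.1) ∨ Cfsg.Spor.IsoJ1 ↥(a.1 ⊔ b.1) := by
  obtain ⟨g, hg⟩ := a.2
  obtain ⟨k, hk⟩ := b.2
  have hne : cj g S.P ≠ cj k S.P := fun e => h (Subtype.ext (by rw [← hg, ← hk]; exact e))
  rw [← hg, ← hk]
  exact S.pair g k hne

theorem line_simple {L : Subgroup G} (h : IsL2 ↥L ∨ Cfsg.Spor.IsoJ1 ↥L) : IsSimpleGroup ↥L :=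
  h.elim l2_simple j1_simple

theorem line_card {L : Subgroup G} (h : IsL2 ↥L ∨ Cfsg.Spor.IsoJ1 ↥L) :
    Nat.card ↥L = 660 ∨ Nat.card ↥L = 175560 :=
  h.imp l2_card j1_card

/-- Two subgroups of order eleven of a line are conjugate in it. -/
theorem line_conj {L : Subgroup G} (h : IsL2 ↥L ∨ Cfsg.Spor.IsoJ1 ↥L) {A B : Subgroup G}
    (hA : Nat.card ↥A = 11) (hB : Nat.card ↥B = 11) (hAL : A ≤ L) (hBL : B ≤ L) :
    ∃ x ∈ L, cj x A = B := by
  have hsyl : ∀ C : Subgroup G, Nat.card ↥C = 11 → C ≤ L →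
      ∃ T : Sylow 11 ↥L, (T : Subgroup ↥L) = C.subgroupOf L := by
    intro C hC hCL
    have hc : Nat.card ↥(C.subgroupOf L) = 11 := by
      rw [Nat.card_congr (Subgroup.subgroupOfEquivOfLe hCL).toEquiv, hC]
    obtain ⟨T, hT⟩ := (IsPGroup.of_card (n := 1) (by simpa using hc) :
      IsPGroup 11 ↥(C.subgroupOf L)).exists_le_sylow
    refine ⟨T, (Subgroup.eq_of_le_of_card_ge hT ?_).symm⟩
    obtain ⟨k, hk⟩ := IsPGroup.iff_card.mp T.isPGroup'
    have hdvd : 11 ^ k ∣ Nat.card ↥L := hk ▸ Subgroup.card_subgroup_dvd_card _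
    have hk1 : k ≤ 1 := by
      by_contra hk2
      have h2 : 11 ^ 2 ∣ Nat.card ↥L := (Nat.pow_dvd_pow 11 (by omega)).trans hdvd
      rcases line_card h with h3 | h3 <;> rw [h3] at h2 <;> norm_num at h2
    rw [hk, hc]
    calc 11 ^ k ≤ 11 ^ 1 := Nat.pow_le_pow_right (by norm_num) hk1
      _ = 11 := pow_one _
  obtain ⟨T, hT⟩ := hsyl A hA hAL
  obtain ⟨U, hU⟩ := hsyl B hB hBL
  obtain ⟨x, hx⟩ := MulAction.exists_smul_eq ↥L T U
  refine ⟨x, x.2, ?_⟩
  ext y
  rw [mem_cj]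
  constructor
  · intro hy
    have hyL : y ∈ L := by
      have := L.mul_mem (L.mul_mem x.2 (hAL hy)) (L.inv_mem x.2)
      simpa [mul_assoc] using this
    have h1 : x⁻¹ * ⟨y, hyL⟩ * x ∈ (T : Subgroup ↥L) := by rw [hT]; exact hy
    have h2 : (⟨y, hyL⟩ : ↥L) ∈ (U : Subgroup ↥L) := by
      rw [← hx, Sylow.coe_subgroup_smul, Subgroup.mem_pointwise_smul_iff_inv_smul_mem]
      simpa [MulAut.smul_def, ← map_inv] using h1
    rw [hU] at h2
    exact h2
  · intro hy
    have h2 : (⟨y, hBL hy⟩ : ↥L) ∈ (U : Subgroup ↥L) := by rw [hU]; exact hy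
    rw [← hx, Sylow.coe_subgroup_smul, Subgroup.mem_pointwise_smul_iff_inv_smul_mem] at h2
    have h1 : x⁻¹ * ⟨y, hBL hy⟩ * x ∈ (T : Subgroup ↥L) := by
      simpa [MulAut.smul_def, ← map_inv] using h2
    rw [hT] at h1
    exact h1

theorem map_cj {H : Type u} [Group H] (f : H →* G) (x : H) (Q : Subgroup H) :
    (cj x Q).map f = cj (f x) (Q.map f) := by
  rw [cj, cj, Subgroup.map_map, Subgroup.map_map]
  congr 1
  ext y
  simp

theorem iso_concl {A B : Type u} [Group A] [Group B] (e : A ≃* B)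
    (h : IsL2 B ∨ Cfsg.Spor.IsoJ1 B) : IsL2 A ∨ Cfsg.Spor.IsoJ1 A :=
  h.imp (fun ⟨f⟩ => ⟨e.trans f⟩) (fun ⟨f⟩ => ⟨e.trans f⟩)

/-- The hypothesis is inherited by the subgroups generated by points. -/
theorem Sys.sub_sys (S : Sys G) {T : Set (Subgroup G)} (hT : T ⊆ S.pts) (hn : T.Nontrivial) :
    Nonempty (Sys ↥(sSup T : Subgroup G)) := by
  obtain ⟨A, hA, B, hB, hAB⟩ := hn
  have hle : ∀ C ∈ T, C ≤ sSup T := fun C hC => le_sSup hC
  let P' : Subgroup ↥(sSup T : Subgroup G) := A.subgroupOf (sSup T)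
  have hmap : P'.map (sSup T : Subgroup G).subtype = A :=
    Subgroup.map_subgroupOf_eq_of_le (hle A hA)
  have hconj : ∀ C ∈ T, ∃ x : ↥(sSup T : Subgroup G), cj (x : G) A = C := by
    intro C hC
    by_cases hAC : A = C
    · exact ⟨1, by rw [OneMemClass.coe_one, cj_one, hAC]⟩
    · have hne : (⟨A, hT hA⟩ : S.Pt) ≠ ⟨C, hT hC⟩ := fun e => hAC (congrArg Subtype.val e)
      obtain ⟨x, hx, hxC⟩ := line_conj (S.line hne) (S.card_pt ⟨A, hT hA⟩) (S.card_pt ⟨C, hT hC⟩)
        le_sup_left le_sup_right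
      exact ⟨⟨x, (sup_le (hle A hA) (hle C hC)) hx⟩, hxC⟩
  have hmapcj : ∀ x : ↥(sSup T : Subgroup G),
      (cj x P').map (sSup T : Subgroup G).subtype = cj (x : G) A := fun x => by
    rw [map_cj, hmap]
    rfl
  refine ⟨{ P := P', card_P := ?_, moved := ?_, gen := ?_, pair := ?_ }⟩
  · show Nat.card ↥(A.subgroupOf (sSup T)) = 11
    rw [Nat.card_congr (Subgroup.subgroupOfEquivOfLe (hle A hA)).toEquiv]
    exact S.card_pt ⟨A, hT hA⟩
  · obtain ⟨x, hx⟩ := hconj B hB
    refine ⟨x, fun e => hAB ?_⟩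
    rw [← hx, ← hmapcj, e, hmap]
  · refine Subgroup.map_injective (sSup T : Subgroup G).subtype_injective ?_
    rw [← MonoidHom.range_eq_map, Subgroup.range_subtype]
    refine le_antisymm (Subgroup.map_subtype_le _) (sSup_le fun C hC => ?_)
    obtain ⟨x, hx⟩ := hconj C hC
    rw [← hx, ← hmapcj]
    refine Subgroup.map_mono fun y hy => ?_
    rw [mem_cj] at hy
    have := (inferInstance : (Subgroup.normalClosure (P' : Set _)).Normal).conj_mem _
      (Subgroup.subset_normalClosure hy) x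
    simpa [mul_assoc] using this
  · intro x y hxy
    obtain ⟨g, hg⟩ := hT hA
    have hne : cj ((x : G) * g) S.P ≠ cj ((y : G) * g) S.P := by
      intro e
      rw [← cj_cj, ← cj_cj, show cj g S.P = A from hg, ← hmapcj, ← hmapcj] at e
      exact hxy (Subgroup.map_injective (sSup T : Subgroup G).subtype_injective e)
    have h := S.pair _ _ hne
    refine iso_concl (((cj x P' ⊔ cj y P').equivMapOfInjective _
      (sSup T : Subgroup G).subtype_injective).trans (MulEquiv.subgroupCongr ?_)) h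
    rw [Subgroup.map_sup, hmapcj, hmapcj, ← cj_cj, ← cj_cj, show cj g S.P = A from hg]

end lines

/-- The recognition theorem. -/
theorem classify {G : Type u} [Group G] [Finite G] (S : Sys G) :
    IsL2 G ∨ Cfsg.Spor.IsoJ1 G := by
  induction hn : Nat.card G using Nat.strong_induction_on generalizing G with
  | _ n ih =>
  subst hn
  have hsub : S.SubHyp := by
    intro T hT hnt htop
    obtain ⟨S'⟩ := S.sub_sys hT hnt
    refine ih _ ?_ S' rfl
    refine lt_of_le_of_ne (Subgroup.card_le_card_group _) fun e => htop ?_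
    exact Subgroup.eq_top_of_card_eq _ e
  obtain ⟨g₀, hg₀⟩ := S.moved
  haveI : Nontrivial G := ⟨g₀, 1, fun e => hg₀ (by rw [e, cj_one])⟩
  by_cases hsimp : IsSimpleGroup G
  · exact case_simple S hsimp hsub
  exfalso
  obtain ⟨N, hN, hNbot, hNtop⟩ : ∃ N : Subgroup G, N.Normal ∧ N ≠ ⊥ ∧ N ≠ ⊤ := by
    by_contra h
    push Not at h
    exact hsimp ⟨fun N hN => or_iff_not_imp_left.mpr (h N hN)⟩
  haveI := hN
  have hPN : ∀ a : S.Pt, ¬ a.1 ≤ N := by
    intro a hle
    obtain ⟨g, hg⟩ := a.2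
    refine hNtop (eq_top_iff.mpr (S.gen ▸ Subgroup.normalClosure_le_normal fun y hy => ?_))
    have h1 : g * y * g⁻¹ ∈ N := hle (hg ▸ mem_cj.mpr (by simpa [mul_assoc] using hy))
    simpa [mul_assoc] using hN.conj_mem _ h1 g⁻¹
  let π : G →* G ⧸ N := QuotientGroup.mk' N
  have hdis : ∀ a b : S.Pt, a ≠ b → Function.Injective (π.comp (a.1 ⊔ b.1).subtype) := by
    intro a b hab
    haveI := line_simple (S.line hab)
    rcases (inferInstance : (N.subgroupOf (a.1 ⊔ b.1)).Normal).eq_bot_or_eq_top with h | h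
    · rw [injective_iff_map_eq_one]
      intro x hx
      have hxN : x ∈ N.subgroupOf (a.1 ⊔ b.1) := (QuotientGroup.eq_one_iff (x : G)).mp hx
      rw [h] at hxN
      exact Subgroup.mem_bot.mp hxN
    · exact absurd (le_sup_left.trans (Subgroup.subgroupOf_eq_top.mp h)) (hPN a)
  have hequiv : ∀ a b : S.Pt, a ≠ b → Nonempty (↥((a.1 ⊔ b.1).map π) ≃* ↥(a.1 ⊔ b.1)) := by
    intro a b hab
    refine ⟨((MonoidHom.ofInjective (hdis a b hab)).trans (MulEquiv.subgroupCongr ?_)).symm⟩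
    rw [MonoidHom.range_comp, Subgroup.range_subtype]
  have hinj : ∀ a b : S.Pt, a.1.map π = b.1.map π → a = b := by
    intro a b e
    by_contra hab
    refine hab (Subtype.ext ?_)
    have h1 : ∀ C : Subgroup G, C ≤ a.1 ⊔ b.1 →
        (C.subgroupOf (a.1 ⊔ b.1)).map (π.comp (a.1 ⊔ b.1).subtype) = C.map π := fun C hC => by
      rw [← Subgroup.map_map, Subgroup.map_subgroupOf_eq_of_le hC]
    have h2 := Subgroup.map_injective (hdis a b hab)
      ((h1 _ le_sup_left).trans (e.trans (h1 _ le_sup_right).symm))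
    have h3 := congrArg (Subgroup.map (a.1 ⊔ b.1).subtype) h2
    rwa [Subgroup.map_subgroupOf_eq_of_le le_sup_left,
      Subgroup.map_subgroupOf_eq_of_le le_sup_right] at h3
  let p₀ : S.Pt := ⟨S.P, 1, cj_one _⟩
  let p₁ : S.Pt := ⟨cj g₀ S.P, g₀, rfl⟩
  have hp : p₁ ≠ p₀ := fun e => hg₀ (congrArg Subtype.val e)
  have hcardmap : ∀ a : S.Pt, Nat.card ↥(a.1.map π) = 11 := by
    intro a
    obtain ⟨b, hb⟩ : ∃ b : S.Pt, a ≠ b := by
      by_cases h : a = p₀
      · exact ⟨p₁, fun e => hp (e.symm.trans h)⟩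
      · exact ⟨p₀, h⟩
    rw [← Subgroup.map_subgroupOf_eq_of_le (le_sup_left : a.1 ≤ a.1 ⊔ b.1), Subgroup.map_map,
      Subgroup.card_map_of_injective (hdis a b hb),
      Nat.card_congr (Subgroup.subgroupOfEquivOfLe le_sup_left).toEquiv, S.card_pt]
  have hcj : ∀ g : G, cj (π g) (S.P.map π) = (cj g S.P).map π := fun g => (map_cj π g S.P).symm
  let S' : Sys (G ⧸ N) :=
    { P := S.P.map π
      card_P := hcardmap p₀
      moved := ⟨π g₀, fun e => hp (hinj p₁ p₀ ((hcj g₀).symm.trans e))⟩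
      gen := by
        rw [Subgroup.coe_map, ← Subgroup.map_normalClosure _ π (QuotientGroup.mk'_surjective N),
          S.gen, Subgroup.map_top_of_surjective _ (QuotientGroup.mk'_surjective N)]
      pair := by
        intro x y hxy
        obtain ⟨g, rfl⟩ := QuotientGroup.mk'_surjective N x
        obtain ⟨h, rfl⟩ := QuotientGroup.mk'_surjective N y
        rw [hcj, hcj] at hxy ⊢
        have hne : (⟨cj g S.P, g, rfl⟩ : S.Pt) ≠ ⟨cj h S.P, h, rfl⟩ :=
          fun e => hxy (congrArg (fun t : S.Pt => t.1.map π) e)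
        rw [← Subgroup.map_sup]
        obtain ⟨f⟩ := hequiv _ _ hne
        exact iso_concl f (S.line hne) }
  have hlt : Nat.card (G ⧸ N) < Nat.card G := by
    rw [Subgroup.card_eq_card_quotient_mul_card_subgroup N]
    have h1 : 1 < Nat.card ↥N := N.one_lt_card_iff_ne_bot.mpr hNbot
    exact lt_mul_of_one_lt_right Nat.card_pos h1
  have hQ := ih _ hlt S' rfl
  obtain ⟨a, b, hab, htop⟩ : ∃ a b : S.Pt, a ≠ b ∧ (a.1 ⊔ b.1).map π = ⊤ := by
    have hfin : ∀ a b : S.Pt, a ≠ b → Nat.card ↥(a.1 ⊔ b.1) = Nat.card (G ⧸ N) →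
        (a.1 ⊔ b.1).map π = ⊤ := by
      intro a b hab hc
      obtain ⟨f⟩ := hequiv a b hab
      exact Subgroup.eq_top_of_card_eq _ ((Nat.card_congr f.toEquiv).trans hc)
    rcases hQ with hQ | hQ
    · refine ⟨p₁, p₀, hp, hfin _ _ hp ?_⟩
      have hd : Nat.card ↥((p₁.1 ⊔ p₀.1).map π) ∣ Nat.card (G ⧸ N) :=
        Subgroup.card_subgroup_dvd_card _
      obtain ⟨f⟩ := hequiv p₁ p₀ hp
      rw [Nat.card_congr f.toEquiv, l2_card hQ] at hd
      rw [l2_card hQ]
      rcases line_card (S.line hp) with h | h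
      · exact h
      · rw [h] at hd; norm_num at hd
    · by_cases hJ : ∃ a b : S.Pt, a ≠ b ∧ Cfsg.Spor.IsoJ1 ↥(a.1 ⊔ b.1)
      · obtain ⟨a, b, hab, hJ⟩ := hJ
        exact ⟨a, b, hab, hfin a b hab (by rw [j1_card hJ, j1_card hQ])⟩
      exfalso
      push Not at hJ
      have hall : S'.AllL2 := by
        intro a b hab
        obtain ⟨x, hx⟩ := a.2
        obtain ⟨y, hy⟩ := b.2
        obtain ⟨g, rfl⟩ := QuotientGroup.mk'_surjective N x
        obtain ⟨h, rfl⟩ := QuotientGroup.mk'_surjective N y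
        have hx' : (cj g S.P).map π = a.1 := (hcj g).symm.trans hx
        have hy' : (cj h S.P).map π = b.1 := (hcj h).symm.trans hy
        have hne : (⟨cj g S.P, g, rfl⟩ : S.Pt) ≠ ⟨cj h S.P, h, rfl⟩ := fun e => hab
          (Subtype.ext (hx'.symm.trans ((congrArg (fun t : S.Pt => t.1.map π) e).trans hy')))
        obtain ⟨f⟩ := hequiv _ _ hne
        obtain ⟨e⟩ := (S.line hne).resolve_right (hJ _ _ hne)
        refine ⟨((MulEquiv.subgroupCongr ?_).trans f).trans e⟩
        rw [← hx', ← hy', Subgroup.map_sup]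
      have hsub' : S'.SubHyp := by
        intro T hT hnt htop
        obtain ⟨S''⟩ := S'.sub_sys hT hnt
        refine ih _ (lt_of_le_of_lt ?_ hlt) S'' rfl
        exact Subgroup.card_le_card_group _
      rcases geometry_allL2 S' (j1_simple hQ) hsub' hall with hL | ⟨⟨A⟩⟩
      · have := l2_card hL
        rw [j1_card hQ] at this
        norm_num at this
      · exact A.false
  have hall : ∀ c : S.Pt, c.1 ≤ a.1 ⊔ b.1 := by
    intro c
    let ι := π.comp (a.1 ⊔ b.1).subtype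
    let d := ((c.1.map π).comap ι).map (a.1 ⊔ b.1).subtype
    have hι : Function.Surjective ι := by
      intro q
      obtain ⟨x, hx, hxq⟩ := (htop ▸ Subgroup.mem_top q : q ∈ (a.1 ⊔ b.1).map π)
      exact ⟨⟨x, hx⟩, hxq⟩
    have hdle : d ≤ a.1 ⊔ b.1 := Subgroup.map_subtype_le _
    have hdmap : d.map π = c.1.map π := by
      show (((c.1.map π).comap ι).map _).map π = _
      rw [Subgroup.map_map]
      exact Subgroup.map_comap_eq_self_of_surjective hι _
    have hdcard : Nat.card ↥d = 11 := by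
      rw [Subgroup.card_map_of_injective (a.1 ⊔ b.1).subtype_injective,
        ← Subgroup.card_map_of_injective (hdis a b hab) (K := (c.1.map π).comap ι),
        Subgroup.map_comap_eq_self_of_surjective hι]
      exact hcardmap c
    obtain ⟨x, hx, hxd⟩ := line_conj (S.line hab) (S.card_pt a) hdcard le_sup_left hdle
    obtain ⟨g, hg⟩ := a.2
    have hd : d ∈ S.pts := ⟨x * g, by show cj (x * g) S.P = d; rw [← cj_cj, show cj g S.P = a.1 from hg, hxd]⟩
    rw [← show (⟨d, hd⟩ : S.Pt) = c from hinj _ _ hdmap]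
    exact hdle
  have hLtop : a.1 ⊔ b.1 = ⊤ := by
    refine eq_top_iff.mpr (S.gen ▸ (Subgroup.closure_le _).mpr fun x hx => ?_)
    obtain ⟨y, hy, hyx⟩ := Group.mem_conjugatesOfSet_iff.mp hx
    obtain ⟨g, rfl⟩ := isConj_iff.mp hyx
    exact hall ⟨cj g S.P, g, rfl⟩ (mem_cj.mpr (by simpa [mul_assoc] using hy))
  refine hNbot ((Subgroup.eq_bot_iff_forall N).mpr fun x hx => ?_)
  have hxL : x ∈ a.1 ⊔ b.1 := hLtop ▸ Subgroup.mem_top x
  have := (injective_iff_map_eq_one _).mp (hdis a b hab) ⟨x, hxL⟩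
    ((QuotientGroup.eq_one_iff x).mpr hx)
  exact congrArg Subtype.val this

end H63.Eleven
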